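import Cfsg.Agent.SL2Pres.Defs

set_option autoImplicit false

/-!
# S2286 piece A0 (helper9): commutation of the conjugates `cj h u i`

* `comm_of_rel_odd`: the three-of-four rule.  If `u` commutes with `cj h u 1`, `cj h u 2` and
  `cj h u k = cj h u 2 * cj h u 1 ^ 2 * u`, then all `cj h u i` commute.
* `comm_of_rel_even`: if `u ^ 2 = 1` and `cj h u k = u * cj h u 1`, then all `cj h u i` commute.
* `comm_of_inv`: if `h u h⁻¹ = u⁻¹` then all `cj h u i` commute.
-/

namespace Cfsg.Agent.SL2Pres

variable {G : Type*} [Group G]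

theorem a0_conj_self (h u : G) (j : ℤ) : h ^ j * u * (h ^ j)⁻¹ = cj h u j := by
  rw [cj, zpow_neg]

theorem a0_mulAut_cj (h u : G) (j i : ℤ) : MulAut.conj (h ^ j) (cj h u i) = cj h u (j + i) := by
  rw [MulAut.conj_apply]
  exact cj_conj' h u j i

theorem a0_mulAut_self (h u : G) (j : ℤ) : MulAut.conj (h ^ j) u = cj h u j := by
  rw [MulAut.conj_apply]
  exact a0_conj_self h u j

/-- the set of differences `d` with `[u, cj d] = 1` is symmetric. -/
theorem a0_commute_neg (h u : G) (d : ℤ) (hc : Commute u (cj h u d)) :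
    Commute u (cj h u (-d)) := by
  have := (cj_commute_iff h u d 0).mp (by rw [cj_zero]; exact hc.symm)
  rwa [zero_sub] at this

theorem a0_pow_eq_one (h u : G) (i : ℤ) {n : ℕ} (hu : u ^ n = 1) : cj h u i ^ n = 1 := by
  rw [cj_pow, hu, cj, mul_one, ← zpow_add, add_neg_cancel, zpow_zero]

/-- **three-of-four rule**: if `u` commutes with `cj h u 1` and `cj h u 2`, and
`cj h u k = cj h u 2 * cj h u 1 ^ 2 * u`, then all `cj h u i` commute. -/
theorem comm_of_rel_odd {G : Type*} [Group G] (h u : G) (k : ℤ)
    (h1 : Commute u (cj h u 1)) (h2 : Commute u (cj h u 2))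
    (hk : cj h u k = cj h u 2 * cj h u 1 ^ 2 * u) :
    ∀ i j : ℤ, Commute (cj h u i) (cj h u j) := by
  -- S d := u commutes with cj d
  set S : ℤ → Prop := fun d => Commute u (cj h u d) with hS
  have hS0 : S 0 := by
    show Commute u (cj h u 0)
    rw [cj_zero]
  have hneg : ∀ d, S d → S (-d) := fun d hd => a0_commute_neg h u d hd
  -- the shifted relations
  have hrelj : ∀ j : ℤ, cj h u (j + k) = cj h u (j + 2) * cj h u (j + 1) ^ 2 * cj h u j := by
    intro j
    have := congrArg (MulAut.conj (h ^ j)) hk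
    rw [(MulAut.conj (h ^ j)).map_mul, (MulAut.conj (h ^ j)).map_mul, map_pow, a0_mulAut_cj,
      a0_mulAut_cj, a0_mulAut_cj, a0_mulAut_self] at this
    exact this
  -- the three rules
  have rule_k : ∀ j, S j → S (j + 1) → S (j + 2) → S (j + k) := by
    intro j a b c
    show Commute _ _
    rw [hrelj j]
    exact (c.mul_right (b.pow_right 2)).mul_right a
  have rule_0 : ∀ j, S (j + 1) → S (j + 2) → S (j + k) → S j := by
    intro j b c d
    show Commute _ _
    have : cj h u j = (cj h u (j + 2) * cj h u (j + 1) ^ 2)⁻¹ * cj h u (j + k) := by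
      rw [hrelj j]
      group
    rw [this]
    exact ((c.mul_right (b.pow_right 2)).inv_right).mul_right d
  have rule_2 : ∀ j, S j → S (j + 1) → S (j + k) → S (j + 2) := by
    intro j a b d
    show Commute _ _
    have : cj h u (j + 2) = cj h u (j + k) * (cj h u (j + 1) ^ 2 * cj h u j)⁻¹ := by
      rw [hrelj j]
      group
    rw [this]
    exact d.mul_right (((b.pow_right 2).mul_right a).inv_right)
  -- base cases
  have hS1 : S 1 := h1
  have hS2 : S 2 := h2
  have hSm1 : S (-1) := hneg 1 h1
  have hSm2 : S (-2) := hneg 2 h2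
  have hk0 : S k := by
    have := rule_k 0 hS0 (by simpa using hS1) (by simpa using hS2)
    simpa using this
  have hk1 : S (k - 1) := by
    have := rule_k (-1) hSm1 (by simpa using hS0) (by norm_num; exact hS1)
    rwa [show (-1 : ℤ) + k = k - 1 by ring] at this
  have hk2 : S (k - 2) := by
    have := rule_k (-2) hSm2 (by norm_num; exact hSm1) (by norm_num; exact hS0)
    rwa [show (-2 : ℤ) + k = k - 2 by ring] at this
  -- the induction: A m := S (m - 2) ∧ S (k + m - 2)   for m : ℕ
  have hA : ∀ m : ℕ, S ((m : ℤ) - 2) ∧ S (k + (m : ℤ) - 2) := by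
    intro m
    induction m using Nat.strong_induction_on with
    | _ m ih =>
      rcases Nat.lt_or_ge m 3 with hm | hm
      · interval_cases m
        · exact ⟨by simpa using hSm2, by simpa using hk2⟩
        · refine ⟨by norm_num; exact hSm1, ?_⟩
          rwa [show k + ((1 : ℕ) : ℤ) - 2 = k - 1 by push_cast; ring]
        · refine ⟨by norm_num; exact hS0, ?_⟩
          rwa [show k + ((2 : ℕ) : ℤ) - 2 = k by push_cast; ring]
      · obtain ⟨a1, b1⟩ := ih (m - 1) (by omega)
        obtain ⟨a2, b2⟩ := ih (m - 2) (by omega)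
        have c1 : ((m - 1 : ℕ) : ℤ) = (m : ℤ) - 1 := by omega
        have c2 : ((m - 2 : ℕ) : ℤ) = (m : ℤ) - 2 := by omega
        rw [c1] at a1 b1
        rw [c2] at a2 b2
        -- S (m - 2) from rule_2 at j = m - 4
        have hm2 : S ((m : ℤ) - 2) := by
          have := rule_2 ((m : ℤ) - 4)
            (by rwa [show (m : ℤ) - 4 = (m : ℤ) - 2 - 2 by ring])
            (by rwa [show (m : ℤ) - 4 + 1 = (m : ℤ) - 1 - 2 by ring])
            (by rwa [show (m : ℤ) - 4 + k = k + ((m : ℤ) - 2) - 2 by ring])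
          rwa [show (m : ℤ) - 4 + 2 = (m : ℤ) - 2 by ring] at this
        refine ⟨hm2, ?_⟩
        -- S (k + m - 2): rule_0 at j = -(k + m - 2)
        have := rule_0 (-(k + (m : ℤ) - 2))
          (by
            have := hneg _ b1
            rwa [show -(k + ((m : ℤ) - 1) - 2) = -(k + (m : ℤ) - 2) + 1 by ring] at this)
          (by
            have := hneg _ b2
            rwa [show -(k + ((m : ℤ) - 2) - 2) = -(k + (m : ℤ) - 2) + 2 by ring] at this)
          (by
            have := hneg _ hm2
            rwa [show -((m : ℤ) - 2) = -(k + (m : ℤ) - 2) + k by ring] at this)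
        have := hneg _ this
        rwa [neg_neg] at this
  have hall : ∀ d : ℤ, S d := by
    intro d
    rcases le_or_gt 0 d with hd | hd
    · have := (hA (d + 2).toNat).1
      rwa [Int.toNat_of_nonneg (by omega), add_sub_cancel_right] at this
    · have := (hA (-d + 2).toNat).1
      rw [Int.toNat_of_nonneg (by omega), add_sub_cancel_right] at this
      have := hneg _ this
      rwa [neg_neg] at this
  intro i j
  exact (cj_commute_iff h u i j).mpr (hall (j - i))

/-- if `u ^ 2 = 1` and `cj h u k = u * cj h u 1` then `u`, `cj h u 1` commute (a product of two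
involutions which is an involution). -/
theorem a0_commute_of_invol (h u : G) (k : ℤ) (hu : u ^ 2 = 1)
    (hk : cj h u k = u * cj h u 1) : Commute u (cj h u 1) := by
  have e1 : cj h u 1 ^ 2 = 1 := a0_pow_eq_one h u 1 hu
  have ek : (u * cj h u 1) ^ 2 = 1 := by
    rw [← hk]
    exact a0_pow_eq_one h u k hu
  set b := cj h u 1
  have ia : u⁻¹ = u := by
    rw [inv_eq_iff_mul_eq_one, ← pow_two, hu]
  have ib : b⁻¹ = b := by
    rw [inv_eq_iff_mul_eq_one, ← pow_two, e1]
  show u * b = b * u
  have h3 : (u * b)⁻¹ = u * b := by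
    rw [inv_eq_iff_mul_eq_one, ← pow_two, ek]
  rw [mul_inv_rev, ia, ib] at h3
  exact h3.symm

/-- **two-of-three rule**: if `u ^ 2 = 1` and `cj h u k = u * cj h u 1`, then all `cj h u i`
commute. -/
theorem comm_of_rel_even {G : Type*} [Group G] (h u : G) (k : ℤ) (hu : u ^ 2 = 1)
    (hk : cj h u k = u * cj h u 1) :
    ∀ i j : ℤ, Commute (cj h u i) (cj h u j) := by
  have h1 : Commute u (cj h u 1) := a0_commute_of_invol h u k hu hk
  set S : ℤ → Prop := fun d => Commute u (cj h u d) with hS
  have hS0 : S 0 := by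
    show Commute u (cj h u 0)
    rw [cj_zero]
  have hneg : ∀ d, S d → S (-d) := fun d hd => a0_commute_neg h u d hd
  have hrelj : ∀ j : ℤ, cj h u (j + k) = cj h u j * cj h u (j + 1) := by
    intro j
    have := congrArg (MulAut.conj (h ^ j)) hk
    rw [(MulAut.conj (h ^ j)).map_mul, a0_mulAut_cj, a0_mulAut_cj, a0_mulAut_self] at this
    exact this
  have rule_k : ∀ j, S j → S (j + 1) → S (j + k) := by
    intro j a b
    show Commute _ _
    rw [hrelj j]
    exact a.mul_right b
  have rule_0 : ∀ j, S (j + 1) → S (j + k) → S j := by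
    intro j b d
    show Commute _ _
    have : cj h u j = cj h u (j + k) * (cj h u (j + 1))⁻¹ := by
      rw [hrelj j]
      group
    rw [this]
    exact d.mul_right b.inv_right
  have rule_1 : ∀ j, S j → S (j + k) → S (j + 1) := by
    intro j a d
    show Commute _ _
    have : cj h u (j + 1) = (cj h u j)⁻¹ * cj h u (j + k) := by
      rw [hrelj j]
      group
    rw [this]
    exact a.inv_right.mul_right d
  have hSm1 : S (-1) := hneg 1 h1
  have hA : ∀ m : ℕ, S ((m : ℤ) - 1) ∧ S (k + (m : ℤ) - 1) := by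
    intro m
    induction m with
    | zero =>
      refine ⟨by simpa using hSm1, ?_⟩
      have := rule_k (-1) hSm1 (by norm_num; exact hS0)
      rwa [show (-1 : ℤ) + k = k + ((0 : ℕ) : ℤ) - 1 by push_cast; ring] at this
    | succ m ih =>
      obtain ⟨a1, b1⟩ := ih
      have hm : S (((m + 1 : ℕ) : ℤ) - 1) := by
        have := rule_1 ((m : ℤ) - 1) a1
          (by rwa [show (m : ℤ) - 1 + k = k + (m : ℤ) - 1 by ring])
        rwa [show (m : ℤ) - 1 + 1 = ((m + 1 : ℕ) : ℤ) - 1 by push_cast; ring] at this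
      refine ⟨hm, ?_⟩
      have := rule_0 (-(k + ((m + 1 : ℕ) : ℤ) - 1))
        (by
          have := hneg _ b1
          rwa [show -(k + (m : ℤ) - 1) = -(k + ((m + 1 : ℕ) : ℤ) - 1) + 1 by push_cast; ring]
            at this)
        (by
          have := hneg _ hm
          rwa [show -(((m + 1 : ℕ) : ℤ) - 1) = -(k + ((m + 1 : ℕ) : ℤ) - 1) + k by ring] at this)
      have := hneg _ this
      rwa [neg_neg] at this
  have hall : ∀ d : ℤ, S d := by
    intro d
    rcases le_or_gt 0 d with hd | hd
    · have := (hA (d + 1).toNat).1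
      rwa [Int.toNat_of_nonneg (by omega), add_sub_cancel_right] at this
    · have := (hA (-d + 1).toNat).1
      rw [Int.toNat_of_nonneg (by omega), add_sub_cancel_right] at this
      have := hneg _ this
      rwa [neg_neg] at this
  intro i j
  exact (cj_commute_iff h u i j).mpr (hall (j - i))

/-- if `h u h⁻¹ = u⁻¹` then every `cj h u i` is `u` or `u⁻¹`. -/
theorem a0_cj_of_inv (h u : G) (hinv : h * u * h⁻¹ = u⁻¹) (i : ℤ) :
    cj h u i = u ∨ cj h u i = u⁻¹ := by
  have hstep : ∀ i : ℤ, (cj h u i = u ∨ cj h u i = u⁻¹) →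
      (cj h u (i + 1) = u ∨ cj h u (i + 1) = u⁻¹) := by
    intro i hi
    rcases hi with hi | hi
    · right
      rw [← cj_succ, hi, hinv]
    · left
      rw [← cj_succ, hi]
      have : h * u⁻¹ * h⁻¹ = (h * u * h⁻¹)⁻¹ := by group
      rw [this, hinv, inv_inv]
  have hstep' : ∀ i : ℤ, (cj h u i = u ∨ cj h u i = u⁻¹) →
      (cj h u (i - 1) = u ∨ cj h u (i - 1) = u⁻¹) := by
    intro i hi
    have e : cj h u i = h * cj h u (i - 1) * h⁻¹ := by
      rw [cj_succ, sub_add_cancel]
    have e' : cj h u (i - 1) = h⁻¹ * cj h u i * h := by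
      rw [e]
      group
    have hinv' : h⁻¹ * u * h = u⁻¹ := by
      have : u = h⁻¹ * u⁻¹ * h := by
        rw [← hinv]
        group
      have h5 : h⁻¹ * u * h = (h⁻¹ * u⁻¹ * h)⁻¹ := by group
      rw [h5, ← this]
    rcases hi with hi | hi
    · right
      rw [e', hi, hinv']
    · left
      rw [e', hi]
      have : h⁻¹ * u⁻¹ * h = (h⁻¹ * u * h)⁻¹ := by group
      rw [this, hinv', inv_inv]
  induction i using Int.induction_on with
  | zero => left; exact cj_zero h u
  | succ i ih => exact hstep _ ih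
  | pred i ih => exact hstep' _ ih

theorem comm_of_inv {G : Type*} [Group G] (h u : G) (hinv : h * u * h⁻¹ = u⁻¹) :
    ∀ i j : ℤ, Commute (cj h u i) (cj h u j) := by
  intro i j
  rcases a0_cj_of_inv h u hinv i with hi | hi <;> rcases a0_cj_of_inv h u hinv j with hj | hj <;>
    rw [hi, hj]
  · exact (Commute.refl u).inv_right
  · exact (Commute.refl u).inv_left

end Cfsg.Agent.SL2Pres
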