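import Cfsg.Agent.SL2Pres.Defs

set_option autoImplicit false

/-!
# S2286, piece A3 (helper5): the derived relations in characteristic 2

From `u² = 1`, `u t u = t u t`, involutions `a`, `b` and `t a t⁻¹ = b h⁻¹ t b` one gets `t² = 1`,
`t h t⁻¹ = h⁻¹` and `t u t⁻¹ = u⁻¹ t u⁻¹`.
-/

namespace Cfsg.Agent.SL2Pres

theorem a3_inv_of_sq {G : Type*} [Group G] (a : G) (ha : a ^ 2 = 1) : a⁻¹ = a := by
  rw [pow_two] at ha
  exact inv_eq_of_mul_eq_one_right ha

theorem even_derived {G : Type*} [Group G] (u t h a b : G) (hu : u ^ 2 = 1)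
    (hbr : u * t * u = t * u * t) (ha : a ^ 2 = 1) (hb : b ^ 2 = 1)
    (hν : t * a * t⁻¹ = b * h⁻¹ * t * b) :
    t ^ 2 = 1 ∧ t * h * t⁻¹ = h⁻¹ ∧ t * u * t⁻¹ = u⁻¹ * t * u⁻¹ := by
  have hui : u⁻¹ = u := a3_inv_of_sq u hu
  have hai : a⁻¹ = a := a3_inv_of_sq a ha
  have hbi : b⁻¹ = b := a3_inv_of_sq b hb
  -- `t` is conjugate to `u`
  have hconj : t = (u * t) * u * (u * t)⁻¹ := by
    have h1 : (u * t) * u * (u * t)⁻¹ = (u * t * u) * t⁻¹ * u⁻¹ := by group
    rw [h1, hbr]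
    group
  have ht2 : t ^ 2 = 1 := by
    have h1 : t * t = (u * t) * (u * u) * (u * t)⁻¹ := by
      conv_lhs => rw [hconj]
      group
    rw [pow_two, h1, ← pow_two u, hu]
    group
  have hti : t⁻¹ = t := a3_inv_of_sq t ht2
  refine ⟨ht2, ?_, ?_⟩
  · -- `h⁻¹ t = b t a t b` is an involution
    have h1 : h⁻¹ * t = b * t * a * t * b := by
      have h2 : h⁻¹ * t = b⁻¹ * (b * h⁻¹ * t * b) * b⁻¹ := by group
      rw [h2, ← hν, hbi, hti]
      group
    have h3 : (h⁻¹ * t) * (h⁻¹ * t) = 1 := by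
      have h4 : (b * t * a * t * b) * (b * t * a * t * b) =
          b * t * a * (t * (b * b) * t) * a * t * b := by group
      have hbb : b * b = 1 := by rw [← pow_two, hb]
      have htt : t * t = 1 := by rw [← pow_two, ht2]
      have haa : a * a = 1 := by rw [← pow_two, ha]
      rw [h1, h4, hbb, mul_one, htt]
      have h5 : b * t * a * 1 * a * t * b = b * t * (a * a) * t * b := by group
      rw [h5, haa]
      have h6 : b * t * 1 * t * b = b * (t * t) * b := by group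
      rw [h6, htt, mul_one, hbb]
    -- hence `t h t⁻¹ = h⁻¹`
    have h7 : t * h * t⁻¹ = (t * t) * (h⁻¹ * t * (h⁻¹ * t))⁻¹ * h⁻¹ := by group
    have htt : t * t = 1 := by rw [← pow_two, ht2]
    rw [h7, h3, htt]
    group
  · rw [hui, hti, hbr]

end Cfsg.Agent.SL2Pres
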