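import Cfsg.Agent.SL2Pres.C3
import Cfsg.Agent.SL2Pres.A0
import Cfsg.Agent.SL2Pres.A3

/-!
# Presentations of `SL₂(F)` and `PSL₂(F)`: the main cases (piece C4)
-/

set_option autoImplicit false

namespace Cfsg.Agent.SL2Pres

open Polynomial Matrix

section main

variable {F : Type*} [Field F] [Fintype F]

/-- the matrices generate `SL₂(F)` -/
theorem liftM_surjective {p : ℕ} [Fact p.Prime] [Algebra (ZMod p) F] (ζ : Fˣ)
    (hζ : ∀ a : Fˣ, a ∈ Subgroup.zpowers ζ) : Function.Surjective (liftM (F := F) ζ) := by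
  rw [← MonoidHom.range_eq_top]
  apply eq_top_of_mem
  · intro a
    obtain ⟨P, hP⟩ := exists_poly ((ζ : F) ^ 2) (adjoin_sq_eq_top (p := p) ζ hζ) a
    refine ⟨polyProd wH wU P, ?_⟩
    rw [map_polyProd, liftM_U, liftM_H, polyProdM, hP]
  · exact ⟨wT, liftM_T ζ⟩
  · intro a
    obtain ⟨n, hn⟩ := fd_exists_pow ζ hζ a
    refine ⟨wH ^ n, ?_⟩
    rw [map_pow, liftM_H, ← hM_pow, hn]

omit [Fintype F] in
/-- the `G`-side facts shared by all cases: commutation of the conjugates from the `N`-relations -/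
theorem comm_of_rels_odd {G : Type*} [Group G] (ψ : FreeGroup (Fin 3) →* G) {p : ℕ} [Fact p.Prime]
    [Algebra (ZMod p) F] (g : F) (k : ℕ)
    (LN : List (FreeGroup (Fin 3)))
    (hLN : (g + 1 = 0 ∧ LN = []) ∨ (LN = [rC 1, rC 2, rKodd k]))
    (hrel : ∀ r ∈ LN, ψ r = 1) (hm : ψ (rM (minpoly (ZMod p) g)) = 1) :
    ∀ i j : ℤ, Commute (cj (ψ wH) (ψ wU) i) (cj (ψ wH) (ψ wU) j) := by
  rcases hLN with ⟨hg1, -⟩ | rfl
  · rw [rM_iff, polyProd_minpoly_of_add_one_eq_zero g hg1] at hm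
    apply comm_of_inv
    rw [← cj_one]
    exact eq_inv_of_mul_eq_one_right hm
  · have h1 := (rC_iff ψ 1).mp (hrel _ (by simp))
    have h2 := (rC_iff ψ 2).mp (hrel _ (by simp))
    have h3 := (rKodd_iff ψ k).mp (hrel _ (by simp))
    exact comm_of_rel_odd _ _ k h1 h2 h3

omit [Fintype F] in
theorem comm_of_rels_even {G : Type*} [Group G] (ψ : FreeGroup (Fin 3) →* G) {p : ℕ} [Fact p.Prime]
    [Algebra (ZMod p) F] (g : F) (k : ℕ)
    (LN : List (FreeGroup (Fin 3)))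
    (hLN : (g + 1 = 0 ∧ LN = []) ∨ (LN = [rKeven k]))
    (hrel : ∀ r ∈ LN, ψ r = 1) (hm : ψ (rM (minpoly (ZMod p) g)) = 1)
    (hu : ψ wU ^ 2 = 1) :
    ∀ i j : ℤ, Commute (cj (ψ wH) (ψ wU) i) (cj (ψ wH) (ψ wU) j) := by
  rcases hLN with ⟨hg1, -⟩ | rfl
  · rw [rM_iff, polyProd_minpoly_of_add_one_eq_zero g hg1] at hm
    apply comm_of_inv
    rw [← cj_one]
    exact eq_inv_of_mul_eq_one_right hm
  · have h3 := (rKeven_iff ψ k).mp (hrel _ (by simp))
    exact comm_of_rel_even _ _ k hu h3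

/-- **`SL₂(F)`, `q` odd.** -/
theorem pres_SL_odd (h2 : (2 : F) ≠ 0) :
    ∃ rels : Finset (FreeGroup (Fin 3)), rels.card ≤ 9 ∧
      Nonempty (PresentedGroup (↑rels : Set (FreeGroup (Fin 3))) ≃*
        SpecialLinearGroup (Fin 2) F) := by
  obtain ⟨p, hp⟩ := CharP.exists F
  haveI : Fact p.Prime := ⟨CharP.char_is_prime F p⟩
  letI : Algebra (ZMod p) F := ZMod.algebra F p
  obtain ⟨ζ, hζ⟩ := exists_zeta F
  have hadj := adjoin_sq_eq_top (p := p) ζ hζ
  obtain ⟨Pζ, hPζ⟩ := exists_poly _ hadj (ζ : F)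
  obtain ⟨Pν, hPν⟩ := exists_poly _ hadj (-(ζ : F)⁻¹)
  have hM1 := zeta_pow_half ζ hζ h2
  -- the `N`-relations
  obtain ⟨k, LN, hLN, hlen, hLNrel⟩ : ∃ (k : ℕ) (LN : List (FreeGroup (Fin 3))),
      (((ζ : F) ^ 2 + 1 = 0 ∧ LN = []) ∨ (LN = [rC 1, rC 2, rKodd k])) ∧ LN.length ≤ 3 ∧
      ∀ r ∈ LN, liftM ζ r = 1 := by
    by_cases hg1 : (ζ : F) ^ 2 + 1 = 0
    · exact ⟨0, [], Or.inl ⟨hg1, rfl⟩, by simp, by simp⟩
    · obtain ⟨k, hk⟩ := exists_pow_eq_sq ζ hζ hg1
      refine ⟨k, _, Or.inr rfl, by simp, ?_⟩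
      intro r hr
      simp only [List.mem_cons, List.not_mem_nil, or_false] at hr
      rcases hr with rfl | rfl | rfl
      · exact liftM_rC ζ 1
      · exact liftM_rC ζ 2
      · exact liftM_rKodd ζ k hk
  set m := minpoly (ZMod p) ((ζ : F) ^ 2) with hmdef
  set M := (Fintype.card F - 1) / 2 with hMdef
  refine pres_wrap ([rU p, rM m, rTH, rT2 M, rR3, rNu Pζ Pν] ++ LN) 9
    (by simp only [List.length_append, List.length_cons, List.length_nil]; omega)
    (liftM ζ) (liftM_surjective (p := p) ζ hζ) ?_ ?_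
  · intro r hr
    simp only [List.mem_append, List.mem_cons, List.not_mem_nil, or_false] at hr
    rcases hr with (rfl | rfl | rfl | rfl | rfl | rfl) | hr
    · exact liftM_rU ζ p
    · exact liftM_rM ζ
    · exact liftM_rTH ζ
    · exact liftM_rT2 ζ M hM1
    · exact liftM_rR3 ζ
    · exact liftM_rNu ζ Pζ Pν hPζ hPν
    · exact hLNrel r hr
  · intro rels hrels
    have hone : ∀ r ∈ [rU p, rM m, rTH, rT2 M, rR3, rNu Pζ Pν] ++ LN,
        PresentedGroup.mk rels r = 1 := fun r hr => PresentedGroup.one_of_mem (hrels r hr)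
    have hu := (rU_iff _ p).mp (hone _ (by simp))
    have hm := hone (rM m) (by simp)
    have hth := (rTH_iff _).mp (hone _ (by simp))
    have ht2 := (rT2_iff _ M).mp (hone _ (by simp))
    have hr3 := (rR3_iff _).mp (hone _ (by simp))
    have hnu := (rNu_iff _ Pζ Pν).mp (hone _ (by simp))
    have hcomm := comm_of_rels_odd (PresentedGroup.mk rels) ((ζ : F) ^ 2) k LN hLN
      (fun r hr => hone r (by simp [hr])) hm
    have main := gside ζ hζ _ _ _ (closure_gens rels) hu hcomm ((rM_iff _ m).mp hm) hth M ht2 hr3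
      Pζ Pν hPζ hPν hnu
    refine ⟨main.1, ?_⟩
    rw [card_SL2']
    exact main.2.1

/-- the quotient map onto `PSL₂(F)` -/
def piP : SpecialLinearGroup (Fin 2) F →* ProjectiveSpecialLinearGroup (Fin 2) F :=
  QuotientGroup.mk' (Subgroup.center (SpecialLinearGroup (Fin 2) F))

omit [Fintype F] in
theorem piP_surjective : Function.Surjective (piP (F := F)) := QuotientGroup.mk'_surjective _

omit [Fintype F] in
theorem piP_eq_one_of_mem_center {A : SpecialLinearGroup (Fin 2) F}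
    (hA : A ∈ Subgroup.center (SpecialLinearGroup (Fin 2) F)) : piP A = 1 :=
  (QuotientGroup.eq_one_iff A).mpr hA

theorem card_PSL2_odd (h2 : (2 : F) ≠ 0) :
    Nat.card (ProjectiveSpecialLinearGroup (Fin 2) F) =
      Fintype.card F * ((Fintype.card F - 1) / 2) * (Fintype.card F + 1) := by
  have h := Cfsg.Agent.Helper7.card_center_mul_card_PSL (F := F) 2 (by norm_num)
  rw [card_SL2'] at h
  have hodd : Fintype.card F % 2 = 1 :=
    FiniteField.odd_card_of_char_ne_two (fun hc => h2 (fd_two_eq_zero_iff.mpr hc))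
  obtain ⟨j, hj⟩ : ∃ j, Fintype.card F = 2 * j + 1 := ⟨Fintype.card F / 2, by omega⟩
  rw [hj] at h ⊢
  have e1 : 2 * j + 1 - 1 = 2 * j := by omega
  rw [e1] at h ⊢
  have hq : 2 ≤ Fintype.card F := Fintype.one_lt_card
  have hjpos : 0 < j := by omega
  have hg : Nat.gcd 2 (2 * j) = 2 := Nat.gcd_eq_left (Dvd.intro _ rfl)
  rw [hg] at h
  have e2 : 2 * j / 2 = j := by omega
  rw [e2]
  apply Nat.eq_of_mul_eq_mul_left (by norm_num : 0 < 2)
  rw [h]; ring

theorem card_PSL2_even (h2 : (2 : F) = 0) :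
    Nat.card (ProjectiveSpecialLinearGroup (Fin 2) F) =
      Nat.card (SpecialLinearGroup (Fin 2) F) := by
  have h := Cfsg.Agent.Helper7.card_center_mul_card_PSL (F := F) 2 (by norm_num)
  obtain ⟨r, hr⟩ := fd_even_card h2
  have hq : 2 ≤ Fintype.card F := Fintype.one_lt_card
  have hg : Nat.gcd 2 (Fintype.card F - 1) = 1 := by
    have hodd : ¬ 2 ∣ Fintype.card F - 1 := by omega
    exact (Nat.Prime.coprime_iff_not_dvd Nat.prime_two).mpr hodd
  rw [hg, one_mul] at h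
  exact h

/-- **`PSL₂(F)`, `q` odd.** -/
theorem pres_PSL_odd (h2 : (2 : F) ≠ 0) :
    ∃ rels : Finset (FreeGroup (Fin 3)), rels.card ≤ 9 ∧
      Nonempty (PresentedGroup (↑rels : Set (FreeGroup (Fin 3))) ≃*
        ProjectiveSpecialLinearGroup (Fin 2) F) := by
  obtain ⟨p, hp⟩ := CharP.exists F
  haveI : Fact p.Prime := ⟨CharP.char_is_prime F p⟩
  letI : Algebra (ZMod p) F := ZMod.algebra F p
  obtain ⟨ζ, hζ⟩ := exists_zeta F
  have hadj := adjoin_sq_eq_top (p := p) ζ hζ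
  obtain ⟨Pζ, hPζ⟩ := exists_poly _ hadj (ζ : F)
  obtain ⟨Pν, hPν⟩ := exists_poly _ hadj (-(ζ : F)⁻¹)
  -- the `N`-relations
  obtain ⟨k, LN, hLN, hlen, hLNrel⟩ : ∃ (k : ℕ) (LN : List (FreeGroup (Fin 3))),
      (((ζ : F) ^ 2 + 1 = 0 ∧ LN = []) ∨ (LN = [rC 1, rC 2, rKodd k])) ∧ LN.length ≤ 3 ∧
      ∀ r ∈ LN, liftM ζ r = 1 := by
    by_cases hg1 : (ζ : F) ^ 2 + 1 = 0
    · exact ⟨0, [], Or.inl ⟨hg1, rfl⟩, by simp, by simp⟩
    · obtain ⟨k, hk⟩ := exists_pow_eq_sq ζ hζ hg1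
      refine ⟨k, _, Or.inr rfl, by simp, ?_⟩
      intro r hr
      simp only [List.mem_cons, List.not_mem_nil, or_false] at hr
      rcases hr with rfl | rfl | rfl
      · exact liftM_rC ζ 1
      · exact liftM_rC ζ 2
      · exact liftM_rKodd ζ k hk
  set m := minpoly (ZMod p) ((ζ : F) ^ 2) with hmdef
  refine pres_wrap ([rU p, rM m, rTH, rT2 0, rR3, rNu Pζ Pν] ++ LN) 9
    (by simp only [List.length_append, List.length_cons, List.length_nil]; omega)
    (piP.comp (liftM ζ)) (piP_surjective.comp (liftM_surjective (p := p) ζ hζ)) ?_ ?_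
  · intro r hr
    simp only [List.mem_append, List.mem_cons, List.not_mem_nil, or_false] at hr
    rw [MonoidHom.comp_apply]
    rcases hr with (rfl | rfl | rfl | rfl | rfl | rfl) | hr
    · rw [liftM_rU ζ p, map_one]
    · rw [liftM_rM ζ, map_one]
    · rw [liftM_rTH ζ, map_one]
    · apply piP_eq_one_of_mem_center
      rw [rT2, map_mul, map_inv, map_pow, map_pow, liftM_T, pow_zero, inv_one, mul_one]
      exact tM_sq_mem_center
    · rw [liftM_rR3 ζ, map_one]
    · rw [liftM_rNu ζ Pζ Pν hPζ hPν, map_one]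
    · rw [hLNrel r hr, map_one]
  · intro rels hrels
    have hone : ∀ r ∈ [rU p, rM m, rTH, rT2 0, rR3, rNu Pζ Pν] ++ LN,
        PresentedGroup.mk rels r = 1 := fun r hr => PresentedGroup.one_of_mem (hrels r hr)
    have hu := (rU_iff _ p).mp (hone _ (by simp))
    have hm := hone (rM m) (by simp)
    have hth := (rTH_iff _).mp (hone _ (by simp))
    have ht2 := (rT2_iff _ 0).mp (hone _ (by simp))
    have hr3 := (rR3_iff _).mp (hone _ (by simp))
    have hnu := (rNu_iff _ Pζ Pν).mp (hone _ (by simp))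
    have hcomm := comm_of_rels_odd (PresentedGroup.mk rels) ((ζ : F) ^ 2) k LN hLN
      (fun r hr => hone r (by simp [hr])) hm
    have main := gside ζ hζ _ _ _ (closure_gens rels) hu hcomm ((rM_iff _ m).mp hm) hth 0 ht2 hr3
      Pζ Pν hPζ hPν hnu
    refine ⟨main.1, ?_⟩
    rw [card_PSL2_odd h2]
    exact main.2.2 h2 (by rw [ht2, pow_zero])

/-- **`SL₂(F)`, `q` even.** -/
theorem pres_SL_even (h2 : (2 : F) = 0) :
    ∃ rels : Finset (FreeGroup (Fin 3)), rels.card ≤ 5 ∧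
      Nonempty (PresentedGroup (↑rels : Set (FreeGroup (Fin 3))) ≃*
        SpecialLinearGroup (Fin 2) F) := by
  haveI : CharP F 2 := by
    have := fd_two_eq_zero_iff.mp h2
    rw [← this]; exact ringChar.charP F
  haveI : Fact (Nat.Prime 2) := ⟨Nat.prime_two⟩
  letI : Algebra (ZMod 2) F := ZMod.algebra F 2
  obtain ⟨ζ, hζ⟩ := exists_zeta F
  have hadj := adjoin_sq_eq_top (p := 2) ζ hζ
  obtain ⟨Pζ, hPζ⟩ := exists_poly _ hadj (ζ : F)
  obtain ⟨Pν, hPν⟩ := exists_poly _ hadj (-(ζ : F)⁻¹)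
  -- the `N`-relations
  obtain ⟨k, LN, hLN, hlen, hLNrel⟩ : ∃ (k : ℕ) (LN : List (FreeGroup (Fin 3))),
      (((ζ : F) ^ 2 + 1 = 0 ∧ LN = []) ∨ (LN = [rKeven k])) ∧ LN.length ≤ 1 ∧
      ∀ r ∈ LN, liftM ζ r = 1 := by
    by_cases hg1 : (ζ : F) ^ 2 + 1 = 0
    · exact ⟨0, [], Or.inl ⟨hg1, rfl⟩, by simp, by simp⟩
    · obtain ⟨k, hk⟩ := exists_pow_eq_add_one ζ hζ h2 hg1
      refine ⟨k, _, Or.inr rfl, by simp, ?_⟩
      intro r hr
      simp only [List.mem_cons, List.not_mem_nil, or_false] at hr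
      rcases hr with rfl
      exact liftM_rKeven ζ k hk
  set m := minpoly (ZMod 2) ((ζ : F) ^ 2) with hmdef
  have hneg1 : (-1 : Fˣ) = 1 := by
    apply Units.ext
    rw [Units.val_neg, Units.val_one]
    linear_combination -h2
  have hu2 : xM (1 : F) ^ 2 = 1 := xM_pow_char 2
  have ht2M : (tM : SpecialLinearGroup (Fin 2) F) ^ 2 = 1 := by rw [tM_sq, hneg1, hM_one]
  refine pres_wrap ([rU 2, rBr, rM m, rNu Pζ Pν] ++ LN) 5
    (by simp only [List.length_append, List.length_cons, List.length_nil]; omega)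
    (liftM ζ) (liftM_surjective (p := 2) ζ hζ) ?_ ?_
  · intro r hr
    simp only [List.mem_append, List.mem_cons, List.not_mem_nil, or_false] at hr
    rcases hr with (rfl | rfl | rfl | rfl) | hr
    · exact liftM_rU ζ 2
    · rw [rBr_iff, liftM_T, liftM_U]
      have h3 := (rR3_iff (liftM (F := F) ζ)).mp (liftM_rR3 ζ)
      rw [liftM_T, liftM_U] at h3
      have eu : (xM (1 : F))⁻¹ = xM 1 := inv_eq_of_mul_eq_one_left (by rw [← pow_two]; exact hu2)
      have et : (tM : SpecialLinearGroup (Fin 2) F)⁻¹ = tM :=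
        inv_eq_of_mul_eq_one_left (by rw [← pow_two]; exact ht2M)
      rw [eu, et] at h3
      exact h3.symm
    · exact liftM_rM ζ
    · exact liftM_rNu ζ Pζ Pν hPζ hPν
    · exact hLNrel r hr
  · intro rels hrels
    have hone : ∀ r ∈ [rU 2, rBr, rM m, rNu Pζ Pν] ++ LN,
        PresentedGroup.mk rels r = 1 := fun r hr => PresentedGroup.one_of_mem (hrels r hr)
    have hu := (rU_iff _ 2).mp (hone _ (by simp))
    have hbr := (rBr_iff _).mp (hone _ (by simp))
    have hm := hone (rM m) (by simp)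
    have hnu := (rNu_iff _ Pζ Pν).mp (hone _ (by simp))
    have hcomm := comm_of_rels_even (PresentedGroup.mk rels) ((ζ : F) ^ 2) k LN hLN
      (fun r hr => hone r (by simp [hr])) hm hu
    -- the homomorphism `x`, to see that `x ζ`, `x (-ζ⁻¹)` are involutions
    obtain ⟨x, hadd, hx1, hconj⟩ := exists_hom ((ζ : F) ^ 2) hadj _ _ hu hcomm ((rM_iff _ m).mp hm)
    have hinv : ∀ a : F, x a ^ 2 = 1 := by
      intro a
      rw [← x_nsmul x hadd, nsmul_eq_mul]
      have : ((2 : ℕ) : F) * a = 0 := by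
        rw [Nat.cast_ofNat, h2, zero_mul]
      rw [this, x_zero x hadd]
    have ea := polyProd_eq x hadd _ _ _ hx1 hconj Pζ
    have eb := polyProd_eq x hadd _ _ _ hx1 hconj Pν
    obtain ⟨ht2, hth, hr3⟩ := even_derived _ _ _ _ _ hu hbr (by rw [ea]; exact hinv _)
      (by rw [eb]; exact hinv _) hnu
    have main := gside ζ hζ _ _ _ (closure_gens rels) hu hcomm ((rM_iff _ m).mp hm) hth 0
      (by rw [ht2, pow_zero]) hr3 Pζ Pν hPζ hPν hnu
    refine ⟨main.1, ?_⟩
    rw [card_SL2']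
    exact main.2.1

/-- **`PSL₂(F)`, `q` even.** -/
theorem pres_PSL_even (h2 : (2 : F) = 0) :
    ∃ rels : Finset (FreeGroup (Fin 3)), rels.card ≤ 5 ∧
      Nonempty (PresentedGroup (↑rels : Set (FreeGroup (Fin 3))) ≃*
        ProjectiveSpecialLinearGroup (Fin 2) F) := by
  obtain ⟨rels, hcard, ⟨e⟩⟩ := pres_SL_even h2
  refine ⟨rels, hcard, ?_⟩
  have hfin : Finite (SpecialLinearGroup (Fin 2) F) := inferInstance
  obtain ⟨e'⟩ := iso_of_surjective (piP (F := F)) piP_surjective hfin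
    (le_of_eq (card_PSL2_even h2).symm)
  exact ⟨e.trans e'⟩

end main

end Cfsg.Agent.SL2Pres
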