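import Cfsg.Agent.SL2Pres.Defs
import Cfsg.Agent.Helper7.Transvections

set_option autoImplicit false

/-!
# S2286 piece B (helper9): the matrices `xM a`, `tM`, `hM a` of `SL_2(F)` and their relations
-/

namespace Cfsg.Agent.SL2Pres

section B

open Matrix

variable {F : Type*} [Field F]

def xM (a : F) : SpecialLinearGroup (Fin 2) F := ⟨!![1, a; 0, 1], by simp [Matrix.det_fin_two]⟩

def tM : SpecialLinearGroup (Fin 2) F := ⟨!![0, 1; -1, 0], by simp [Matrix.det_fin_two]⟩

def hM (a : Fˣ) : SpecialLinearGroup (Fin 2) F :=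
  ⟨!![(a : F), 0; 0, (a : F)⁻¹], by simp [Matrix.det_fin_two]⟩

/-- `yM a = [[1,0],[a,1]]`. -/
def b_yM (a : F) : SpecialLinearGroup (Fin 2) F := ⟨!![1, 0; a, 1], by simp [Matrix.det_fin_two]⟩

theorem xM_add (a b : F) : xM (a + b) = xM a * xM b := by
  ext i j
  simp only [Matrix.SpecialLinearGroup.coe_mul]
  fin_cases i <;> fin_cases j <;> simp [xM, Matrix.mul_apply, Fin.sum_univ_two, add_comm]

theorem b_xM_zero : xM (0 : F) = 1 := by
  ext i j
  fin_cases i <;> fin_cases j <;> simp [xM]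

theorem b_xM_neg (a : F) : xM (-a) = (xM a)⁻¹ := by
  rw [eq_inv_iff_mul_eq_one, ← xM_add, neg_add_cancel, b_xM_zero]

theorem b_xM_nsmul (a : F) (n : ℕ) : xM (n • a) = xM a ^ n := by
  induction n with
  | zero => rw [zero_smul, pow_zero, b_xM_zero]
  | succ n ih => rw [succ_nsmul, xM_add, ih, pow_succ]

theorem b_xM_injective : Function.Injective (xM (F := F)) := by
  intro a b hab
  have := congrArg (fun g : SpecialLinearGroup (Fin 2) F => g.1 0 1) hab
  simpa [xM] using this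

theorem hM_mul (a b : Fˣ) : hM (a * b) = (hM a * hM b : SpecialLinearGroup (Fin 2) F) := by
  ext i j
  simp only [Matrix.SpecialLinearGroup.coe_mul]
  fin_cases i <;> fin_cases j <;> simp [hM, Matrix.mul_apply, Fin.sum_univ_two, mul_comm]

theorem b_hM_one : hM (1 : Fˣ) = (1 : SpecialLinearGroup (Fin 2) F) := by
  ext i j
  fin_cases i <;> fin_cases j <;> simp [hM]

theorem b_hM_inv (c : Fˣ) : hM c⁻¹ = ((hM c)⁻¹ : SpecialLinearGroup (Fin 2) F) := by
  rw [eq_inv_iff_mul_eq_one, ← hM_mul, inv_mul_cancel, b_hM_one]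

theorem hM_conj (ζ : Fˣ) (a : F) : hM ζ * xM a * (hM ζ)⁻¹ = xM ((ζ : F) ^ 2 * a) := by
  rw [← b_hM_inv]
  have hc : (ζ : F) ≠ 0 := ζ.ne_zero
  ext i j
  simp only [Matrix.SpecialLinearGroup.coe_mul]
  fin_cases i <;> fin_cases j <;>
    simp [hM, xM, Matrix.mul_apply, Fin.sum_univ_two]
  field_simp

theorem tM_hM (ζ : Fˣ) : tM * hM ζ * tM⁻¹ = (hM ζ)⁻¹ := by
  rw [← b_hM_inv, mul_inv_eq_iff_eq_mul]
  ext i j
  simp only [Matrix.SpecialLinearGroup.coe_mul]
  fin_cases i <;> fin_cases j <;>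
    simp [hM, tM, Matrix.mul_apply, Fin.sum_univ_two]

theorem tM_sq : (tM : SpecialLinearGroup (Fin 2) F) ^ 2 = hM (-1) := by
  rw [pow_two]
  ext i j
  simp only [Matrix.SpecialLinearGroup.coe_mul]
  fin_cases i <;> fin_cases j <;>
    simp [hM, tM, Matrix.mul_apply, Fin.sum_univ_two]

theorem tM_sq_mem_center :
    (tM : SpecialLinearGroup (Fin 2) F) ^ 2 ∈ Subgroup.center (SpecialLinearGroup (Fin 2) F) := by
  rw [Subgroup.mem_center_iff]
  intro g
  rw [pow_two]
  ext i j
  simp only [Matrix.SpecialLinearGroup.coe_mul]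
  fin_cases i <;> fin_cases j <;>
    simp [tM, Matrix.mul_apply, Fin.sum_univ_two]

/-- `tM * xM a * tM⁻¹ = yM (-a)`. -/
theorem b_tM_xM_yM (a : F) : tM * xM a * tM⁻¹ = b_yM (-a) := by
  rw [mul_inv_eq_iff_eq_mul]
  ext i j
  simp only [Matrix.SpecialLinearGroup.coe_mul]
  fin_cases i <;> fin_cases j <;>
    simp [xM, b_yM, tM, Matrix.mul_apply, Fin.sum_univ_two]

theorem tM_xM (a : Fˣ) :
    tM * xM (a : F) * tM⁻¹ = xM (-(a : F)⁻¹) * (hM a)⁻¹ * tM * xM (-(a : F)⁻¹) := by
  rw [mul_inv_eq_iff_eq_mul, ← b_hM_inv]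
  have ha : (a : F) ≠ 0 := a.ne_zero
  ext i j
  simp only [Matrix.SpecialLinearGroup.coe_mul]
  fin_cases i <;> fin_cases j <;>
    simp [xM, hM, tM, Matrix.mul_apply, Fin.sum_univ_two]

theorem xM_pow_char (p : ℕ) [CharP F p] : xM (1 : F) ^ p = 1 := by
  rw [← b_xM_nsmul, nsmul_eq_mul, CharP.cast_eq_zero, zero_mul, b_xM_zero]

/-! ### generation -/

theorem b_transvection_01 (c : F) :
    (SpecialLinearGroup.transvection (show (0 : Fin 2) ≠ 1 by decide) c
      : SpecialLinearGroup (Fin 2) F) = xM c := by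
  apply Subtype.ext
  rw [SpecialLinearGroup.transvection_coe]
  ext i j
  fin_cases i <;> fin_cases j <;> simp [xM, Matrix.single]

theorem b_transvection_10 (c : F) :
    (SpecialLinearGroup.transvection (show (1 : Fin 2) ≠ 0 by decide) c
      : SpecialLinearGroup (Fin 2) F) = b_yM c := by
  apply Subtype.ext
  rw [SpecialLinearGroup.transvection_coe]
  ext i j
  fin_cases i <;> fin_cases j <;> simp [b_yM, Matrix.single]

/-- `SL_2(F)` is generated by the `xM a` and `b_yM a`. -/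
theorem b_closure_XY (K : Subgroup (SpecialLinearGroup (Fin 2) F))
    (hX : ∀ a : F, xM a ∈ K) (hY : ∀ a : F, b_yM a ∈ K) : K = ⊤ := by
  rw [eq_top_iff]
  intro M _
  refine Cfsg.Agent.Helper7.Transv.transvection_induction (fun M => M ∈ K) ?_ ?_ M
  · intro i j hij a
    fin_cases i <;> fin_cases j
    · exact absurd rfl hij
    · show SpecialLinearGroup.transvection _ a ∈ K
      rw [b_transvection_01]
      exact hX a
    · show SpecialLinearGroup.transvection _ a ∈ K
      rw [b_transvection_10]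
      exact hY a
    · exact absurd rfl hij
  · intro A B hA hB
    exact K.mul_mem hA hB

/-- Bruhat decomposition: a subgroup containing all `xM a`, `tM`, all `hM a` is everything -/
theorem eq_top_of_mem (S : Subgroup (SpecialLinearGroup (Fin 2) F)) (hx : ∀ a : F, xM a ∈ S)
    (ht : tM ∈ S) (hh : ∀ a : Fˣ, hM a ∈ S) : S = ⊤ := by
  have _ := hh
  refine b_closure_XY S hx ?_
  intro a
  have := b_tM_xM_yM (-a)
  rw [neg_neg] at this
  rw [← this]
  exact S.mul_mem (S.mul_mem ht (hx _)) (S.inv_mem ht)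

end B

end Cfsg.Agent.SL2Pres
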