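import Cfsg.Agent.SL2Pres.Defs

/-!
# S2286 piece A1 (helper4): the homomorphism `x : (F,+) → G`

`N = ⟨h^i u h^{-i}⟩` is abelian of exponent `p`, conjugation by `h` makes it an `F_p[X]`-module,
the relation `polyProd h u (minpoly g) = 1` says `minpoly(φ) u = 0`, hence `a ↦ P_a(φ)(u)`
(`P_a(g) = a`) is well defined and additive.
-/

set_option autoImplicit false

namespace Cfsg.Agent.SL2Pres

open Polynomial

theorem a1_abstract {F : Type*} [Field F] {p : ℕ} [Fact p.Prime] [Algebra (ZMod p) F]
    (g : F) (hg : Algebra.adjoin (ZMod p) {g} = ⊤)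
    {M : Type*} [AddCommGroup M] [Module (ZMod p) M] (Φ : M →ₗ[ZMod p] M) (v : M)
    (hv : aeval Φ (minpoly (ZMod p) g) v = 0) :
    ∃ y : F → M, (∀ a b, y (a + b) = y a + y b) ∧ y 1 = v ∧ ∀ a, y (g * a) = Φ (y a) := by
  classical
  have hsurj : ∀ a : F, ∃ P : (ZMod p)[X], aeval g P = a := by
    intro a
    have : a ∈ (Algebra.adjoin (ZMod p) {g}) := by rw [hg]; trivial
    rw [Algebra.adjoin_singleton_eq_range_aeval] at this
    exact this
  have hwd : ∀ P Q : (ZMod p)[X], aeval g P = aeval g Q → aeval Φ P v = aeval Φ Q v := by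
    intro P Q hPQ
    have h0 : aeval g (P - Q) = 0 := by rw [map_sub, hPQ, sub_self]
    obtain ⟨R, hR⟩ := minpoly.dvd (ZMod p) g h0
    have : aeval Φ (P - Q) v = 0 := by
      rw [hR, mul_comm, map_mul, Module.End.mul_apply, hv, map_zero]
    rw [map_sub, LinearMap.sub_apply, sub_eq_zero] at this
    exact this
  choose Pa hPa using hsurj
  refine ⟨fun a => aeval Φ (Pa a) v, ?_, ?_, ?_⟩
  · intro a b
    show aeval Φ (Pa (a + b)) v = _
    rw [hwd (Pa (a+b)) (Pa a + Pa b) (by rw [map_add, hPa, hPa, hPa]), map_add,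
      LinearMap.add_apply]
  · show aeval Φ (Pa 1) v = _
    rw [hwd (Pa 1) 1 (by rw [hPa, map_one]), map_one, Module.End.one_apply]
  · intro a
    show aeval Φ (Pa (g * a)) v = _
    rw [hwd (Pa (g*a)) (X * Pa a) (by rw [hPa, map_mul, aeval_X, hPa]), map_mul, aeval_X,
      Module.End.mul_apply]

theorem a1_mod {G : Type*} [Group G] {F : Type*} [Field F] {p : ℕ} [Fact p.Prime]
    [Algebra (ZMod p) F] (g : F) (hg : Algebra.adjoin (ZMod p) {g} = ⊤) (h u : G)
    {N : Type*} [CommGroup N] [Module (ZMod p) (Additive N)] (ι : N →* G) (φ : N →* N) (v : N)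
    (hφ : ∀ n, ι (φ n) = h * ι n * h⁻¹) (hv : ι v = u) (hinj : Function.Injective ι)
    (hm : polyProd h u (minpoly (ZMod p) g) = 1) :
    ∃ x : F → G, (∀ a b, x (a + b) = x a * x b) ∧ x 1 = u ∧ ∀ a, h * x a * h⁻¹ = x (g * a) := by
  classical
  have hp := (Fact.out : p.Prime)
  have : NeZero p := ⟨hp.ne_zero⟩
  let Φ : Additive N →ₗ[ZMod p] Additive N := (MonoidHom.toAdditive φ).toZModLinearMap p
  let w : Additive N := Additive.ofMul v
  have hΦ : ∀ z : Additive N, ι (Additive.toMul (Φ z)) = h * ι (Additive.toMul z) * h⁻¹ :=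
    fun z => hφ _
  have hΦpow : ∀ i : ℕ, ι (Additive.toMul ((Φ ^ i) w)) = cj h u (i : ℤ) := by
    intro i
    induction i with
    | zero => simp [w, cj_zero, hv]
    | succ i ih =>
      rw [pow_succ', Module.End.mul_apply, hΦ, ih, cj_succ]
      push_cast
      rfl
  have hsmul : ∀ (c : ZMod p) (z : Additive N), c • z = c.val • z := by
    intro c z
    conv_lhs => rw [← ZMod.natCast_zmod_val c]
    rw [Nat.cast_smul_eq_nsmul]
  have hkey : ∀ P : (ZMod p)[X], ι (Additive.toMul ((aeval Φ P) w)) = polyProd h u P := by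
    intro P
    rw [aeval_eq_sum_range, LinearMap.sum_apply]
    unfold polyProd
    have : ∀ n : ℕ, ι (Additive.toMul (∑ i ∈ Finset.range n, (P.coeff i • Φ ^ i) w)) =
        ((List.range n).map fun i : ℕ => cj h u (i:ℤ) ^ (P.coeff i).val).prod := by
      intro n
      induction n with
      | zero => simp
      | succ n ih =>
        rw [Finset.sum_range_succ, toMul_add, map_mul, ih, List.range_succ,
          List.map_append, List.prod_append]
        congr 1
        simp only [List.map_cons, List.map_nil, List.prod_cons, List.prod_nil, mul_one]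
        rw [LinearMap.smul_apply, hsmul, toMul_nsmul, map_pow, hΦpow]
    exact this _
  have hw : aeval Φ (minpoly (ZMod p) g) w = 0 := by
    apply Additive.toMul.injective
    apply hinj
    rw [hkey, hm]
    simp
  obtain ⟨y, hy1, hy2, hy3⟩ := a1_abstract g hg Φ w hw
  refine ⟨fun a => ι (Additive.toMul (y a)), ?_, ?_, ?_⟩
  · intro a b
    show ι (Additive.toMul (y (a + b))) = _
    rw [hy1, toMul_add, map_mul]
  · show ι (Additive.toMul (y 1)) = u
    rw [hy2]
    exact hv
  · intro a
    show h * ι (Additive.toMul (y a)) * h⁻¹ = ι (Additive.toMul (y (g * a)))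
    rw [hy3, hΦ]

section concrete

variable {G : Type*} [Group G] (h u : G)

/-- the subgroup generated by the conjugates `cj h u i` -/
def a1_N : Subgroup G := Subgroup.closure (Set.range (cj h u))

theorem a1_cj_mem (i : ℤ) : cj h u i ∈ a1_N h u := Subgroup.subset_closure ⟨i, rfl⟩

theorem a1_conj_mem {n : G} (hn : n ∈ a1_N h u) : h * n * h⁻¹ ∈ a1_N h u := by
  have hle : (a1_N h u).map (MulAut.conj h).toMonoidHom ≤ a1_N h u := by
    rw [a1_N, MonoidHom.map_closure]
    apply Subgroup.closure_mono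
    rintro _ ⟨_, ⟨i, rfl⟩, rfl⟩
    refine ⟨i + 1, ?_⟩
    simp [cj_succ]
  exact hle ⟨n, hn, by simp [MulAut.conj_apply]⟩

end concrete

theorem exists_hom {G : Type*} [Group G] {F : Type*} [Field F] [Finite F] {p : ℕ} [Fact p.Prime]
    [Algebra (ZMod p) F] (g : F) (hg : Algebra.adjoin (ZMod p) {g} = ⊤) (h u : G) (hu : u ^ p = 1)
    (hcomm : ∀ i j : ℤ, Commute (cj h u i) (cj h u j))
    (hm : polyProd h u (minpoly (ZMod p) g) = 1) :
    ∃ x : F → G, (∀ a b, x (a + b) = x a * x b) ∧ x 1 = u ∧ ∀ a, h * x a * h⁻¹ = x (g * a) := by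
  classical
  have hcN : ∀ x y : a1_N h u, x * y = y * x := by
    have hc : ∀ x ∈ a1_N h u, ∀ y ∈ a1_N h u, x * y = y * x := by
      intro x hx y hy
      have := Subgroup.isMulCommutative_closure (G := G) (k := Set.range (cj h u)) (by
        rintro _ ⟨i, rfl⟩ _ ⟨j, rfl⟩; exact (hcomm i j).eq)
      exact congrArg Subtype.val (mul_comm' (⟨x, hx⟩ : Subgroup.closure (Set.range (cj h u))) ⟨y, hy⟩)
    intro x y
    exact Subtype.ext (hc x x.2 y y.2)
  let instC : CommGroup (a1_N h u) := { (inferInstance : Group (a1_N h u)) with mul_comm := hcN }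
  have hexp' : ∀ n ∈ a1_N h u, n ^ p = 1 := by
    intro n hn
    induction hn using Subgroup.closure_induction with
    | mem x hx =>
      obtain ⟨i, rfl⟩ := hx
      rw [cj_pow, hu]; simp [cj]
    | one => simp
    | mul x y hx hy ihx ihy =>
      have hc : x * y = y * x := congrArg Subtype.val (hcN ⟨x, hx⟩ ⟨y, hy⟩)
      rw [Commute.mul_pow hc, ihx, ihy, one_mul]
    | inv x hx ihx => rw [inv_pow, ihx, inv_one]
  have hexp : ∀ n : Additive (a1_N h u), p • n = 0 := by
    intro n
    have := hexp' (Additive.toMul n : a1_N h u).1 (Additive.toMul n).2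
    apply Additive.toMul.injective
    apply Subtype.ext
    simpa using this
  let φ : a1_N h u →* a1_N h u :=
    { toFun := fun n => ⟨h * n * h⁻¹, a1_conj_mem h u n.2⟩
      map_one' := by apply Subtype.ext; simp
      map_mul' := by intro a b; apply Subtype.ext; simp }
  exact @a1_mod G _ F _ p _ _ g hg h u (a1_N h u) instC (AddCommGroup.zmodModule hexp)
    (a1_N h u).subtype φ ⟨u, by simpa [cj_zero] using a1_cj_mem h u 0⟩ (fun n => rfl) rfl
    Subtype.val_injective hm

end Cfsg.Agent.SL2Pres
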