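import Cfsg.Agent.SL2Pres.Defs

/-!
# Presentations of `SL₂(F)`: finite field facts (piece Fd)
-/

set_option autoImplicit false

namespace Cfsg.Agent.SL2Pres

open Polynomial

section Fd

variable {F : Type*} [Field F] [Fintype F]

theorem exists_zeta (F : Type*) [Field F] [Fintype F] :
    ∃ ζ : Fˣ, ∀ a : Fˣ, a ∈ Subgroup.zpowers ζ :=
  IsCyclic.exists_generator

/-- natural exponents suffice -/
theorem fd_exists_pow (ζ : Fˣ) (hζ : ∀ a : Fˣ, a ∈ Subgroup.zpowers ζ) (a : Fˣ) :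
    ∃ n : ℕ, ζ ^ n = a := by
  have h := hζ a
  rw [← mem_powers_iff_mem_zpowers] at h
  exact h

theorem fd_exists_pow' (ζ : Fˣ) (hζ : ∀ a : Fˣ, a ∈ Subgroup.zpowers ζ) (a : F) (ha : a ≠ 0) :
    ∃ n : ℕ, (ζ : F) ^ n = a := by
  obtain ⟨n, hn⟩ := fd_exists_pow ζ hζ (Units.mk0 a ha)
  refine ⟨n, ?_⟩
  have := congrArg Units.val hn
  simpa using this

theorem fd_two_eq_zero_iff : (2 : F) = 0 ↔ ringChar F = 2 := by
  constructor
  · intro h2
    have h : ((2 : ℕ) : F) = 0 := by exact_mod_cast h2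
    have hd := (ringChar.spec F 2).mp h
    have hp : (ringChar F).Prime := CharP.char_is_prime F _
    exact (Nat.prime_dvd_prime_iff_eq hp Nat.prime_two).mp hd
  · intro h
    have : ((2 : ℕ) : F) = 0 := by
      rw [ringChar.spec F 2, h]
    exact_mod_cast this

/-- every element of a finite field is a sum of two squares -/
theorem fd_sum_two_sq (a : F) : ∃ b c : F, a = b ^ 2 + c ^ 2 := by
  by_cases h2 : (2 : F) = 0
  · obtain ⟨b, hb⟩ := FiniteField.isSquare_of_char_two (fd_two_eq_zero_iff.mp h2) a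
    exact ⟨b, 0, by rw [hb]; ring⟩
  · have hodd : Fintype.card F % 2 = 1 :=
      FiniteField.odd_card_of_char_ne_two (fun h => h2 (fd_two_eq_zero_iff.mpr h))
    obtain ⟨b, c, hbc⟩ := FiniteField.exists_root_sum_quadratic (R := F) (f := X ^ 2)
      (g := X ^ 2 - C a) (degree_X_pow 2) (degree_X_pow_sub_C (by decide) _) hodd
    refine ⟨b, c, ?_⟩
    simp only [eval_pow, eval_X, eval_sub, eval_C] at hbc
    linear_combination -hbc

theorem adjoin_sq_eq_top {p : ℕ} [Fact p.Prime] [Algebra (ZMod p) F] (ζ : Fˣ)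
    (hζ : ∀ a : Fˣ, a ∈ Subgroup.zpowers ζ) :
    Algebra.adjoin (ZMod p) {(ζ : F) ^ 2} = ⊤ := by
  have hg : (ζ : F) ^ 2 ∈ Algebra.adjoin (ZMod p) {(ζ : F) ^ 2} :=
    Algebra.subset_adjoin (Set.mem_singleton _)
  have hsq : ∀ b : F, b ^ 2 ∈ Algebra.adjoin (ZMod p) {(ζ : F) ^ 2} := by
    intro b
    by_cases hb : b = 0
    · rw [hb]; simp
    · obtain ⟨n, hn⟩ := fd_exists_pow' ζ hζ b hb
      rw [← hn, ← pow_mul, mul_comm, pow_mul]
      exact Subalgebra.pow_mem _ hg n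
  rw [eq_top_iff]
  intro a _
  obtain ⟨b, c, rfl⟩ := fd_sum_two_sq a
  exact Subalgebra.add_mem _ (hsq b) (hsq c)

omit [Fintype F] in
theorem exists_poly {p : ℕ} [Fact p.Prime] [Algebra (ZMod p) F] (g : F)
    (hg : Algebra.adjoin (ZMod p) {g} = ⊤) (a : F) : ∃ P : (ZMod p)[X], aeval g P = a := by
  have h : a ∈ Algebra.adjoin (ZMod p) {g} := by rw [hg]; trivial
  rw [Algebra.adjoin_singleton_eq_range_aeval] at h
  exact h

theorem exists_pow_eq_sq (ζ : Fˣ) (hζ : ∀ a : Fˣ, a ∈ Subgroup.zpowers ζ)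
    (hg1 : (ζ : F) ^ 2 + 1 ≠ 0) : ∃ k : ℕ, ((ζ : F) ^ 2) ^ k = ((ζ : F) ^ 2 + 1) ^ 2 := by
  obtain ⟨n, hn⟩ := fd_exists_pow' ζ hζ _ hg1
  exact ⟨n, by rw [← hn, ← pow_mul, ← pow_mul, mul_comm]⟩

theorem fd_even_card (h2 : (2 : F) = 0) : Even (Fintype.card F) := by
  have := FiniteField.even_card_of_char_two (fd_two_eq_zero_iff.mp h2)
  exact Nat.even_iff.mpr this

theorem exists_pow_eq_add_one (ζ : Fˣ) (hζ : ∀ a : Fˣ, a ∈ Subgroup.zpowers ζ) (h2 : (2 : F) = 0)
    (hg1 : (ζ : F) ^ 2 + 1 ≠ 0) : ∃ k : ℕ, ((ζ : F) ^ 2) ^ k = (ζ : F) ^ 2 + 1 := by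
  obtain ⟨n, hn⟩ := fd_exists_pow' ζ hζ _ hg1
  obtain ⟨r, hr⟩ := fd_even_card h2
  have hz : ((ζ : F) ^ 2) ^ r = ζ := by
    rw [← pow_mul, two_mul, ← hr, FiniteField.pow_card]
  exact ⟨r * n, by rw [pow_mul, hz, hn]⟩

theorem zeta_pow_half (ζ : Fˣ) (hζ : ∀ a : Fˣ, a ∈ Subgroup.zpowers ζ) (h2 : (2 : F) ≠ 0) :
    (ζ : F) ^ ((Fintype.card F - 1) / 2) = -1 := by
  have hchar : ringChar F ≠ 2 := fun h => h2 (fd_two_eq_zero_iff.mpr h)
  have hodd : Fintype.card F % 2 = 1 := FiniteField.odd_card_of_char_ne_two hchar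
  have hM : (Fintype.card F - 1) / 2 = Fintype.card F / 2 := by omega
  rw [hM]
  rcases FiniteField.pow_dichotomy hchar (Units.ne_zero ζ) with h | h
  · exfalso
    have hord : orderOf ζ = Fintype.card F - 1 := by
      classical
      rw [orderOf_eq_card_of_forall_mem_zpowers hζ, Nat.card_eq_fintype_card, Fintype.card_units]
    have h1 : ζ ^ (Fintype.card F / 2) = 1 := by
      apply Units.ext
      rw [Units.val_pow_eq_pow_val, h, Units.val_one]
    have hdvd := orderOf_dvd_of_pow_eq_one h1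
    rw [hord] at hdvd
    have hq : 2 ≤ Fintype.card F := Fintype.one_lt_card
    have hpos : 0 < Fintype.card F / 2 := by omega
    have := Nat.le_of_dvd hpos hdvd
    omega
  · exact h

omit [Fintype F] in
/-- degenerate case `g = -1` (`q = 2, 5`): the `m`-relation is `u * (h u h⁻¹) = 1` -/
theorem polyProd_minpoly_of_add_one_eq_zero {G : Type*} [Group G] {p : ℕ} [Fact p.Prime]
    [Algebra (ZMod p) F] (g : F) (hg : g + 1 = 0) (h u : G) :
    polyProd h u (minpoly (ZMod p) g) = u * cj h u 1 := by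
  have hg' : g = algebraMap (ZMod p) F (-1) := by
    rw [map_neg, map_one]; linear_combination hg
  have hmin : minpoly (ZMod p) g = X - C (-1 : ZMod p) := by
    rw [hg']
    exact minpoly.eq_X_sub_C_of_algebraMap_inj _ (algebraMap (ZMod p) F).injective
  have hdeg : (X - C (-1 : ZMod p)).natDegree = 1 := natDegree_X_sub_C _
  have h1 : (1 : ZMod p).val = 1 := ZMod.val_one p
  unfold polyProd
  rw [hmin, hdeg]
  have c0 : (X - C (-1 : ZMod p)).coeff 0 = 1 := by simp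
  have c1 : (X - C (-1 : ZMod p)).coeff 1 = 1 := by
    rw [coeff_sub, coeff_X_one, coeff_C]; simp
  simp only [List.range_succ, List.range_zero, List.nil_append, List.cons_append, List.map_cons,
    List.map_nil, List.prod_cons, List.prod_nil, mul_one, c0, c1, h1, pow_one, Nat.cast_zero,
    Nat.cast_one, cj_zero]

end Fd

end Cfsg.Agent.SL2Pres
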