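import Cfsg.Agent.SL2Pres.Defs
import Cfsg.Agent.SL2Pres.Fd

set_option autoImplicit false

/-!
# S2286, piece A2a (helper5): the family of `t`-relations and the order of `h`

`fam n : t x(ζⁿ) t⁻¹ = x(−ζ⁻ⁿ) h⁻ⁿ t x(−ζ⁻ⁿ)` for all `n : ℤ` from `n = 0, 1` (conjugation by `hⁱ`
sends `fam n` to `fam (n − 2i)`); `h^(q−1) = 1`; and `h^((q−1)/2) = 1` when `t² = 1`, `2 ≠ 0`.
-/

namespace Cfsg.Agent.SL2Pres

section A2

variable {G : Type*} [Group G] {F : Type*} [Field F]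

theorem a2a_th_zpow (t h : G) (hth : t * h * t⁻¹ = h⁻¹) (i : ℤ) :
    t * h ^ i * t⁻¹ = h ^ (-i) := by
  rw [← conj_zpow, hth, inv_zpow, zpow_neg]

theorem a2a_conj (x : F → G) (h : G) (ζ : Fˣ)
    (hconj : ∀ a, h * x a * h⁻¹ = x ((ζ : F) ^ 2 * a)) (i : ℤ) (a : F) :
    h ^ i * x a * h ^ (-i) = x (((ζ ^ (2 * i) : Fˣ) : F) * a) := by
  have h1 : ∀ a, h * x a * h⁻¹ = x (((ζ ^ 2 : Fˣ) : F) * a) := by
    intro a
    rw [hconj, Units.val_pow_eq_pow_val]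
  rw [x_conj_zpow x h (ζ ^ 2) h1 i a, ← zpow_natCast ζ 2, ← zpow_mul]
  norm_num

theorem a2a_step (x : F → G) (t h : G) (ζ : Fˣ)
    (hconj : ∀ a, h * x a * h⁻¹ = x ((ζ : F) ^ 2 * a)) (hth : t * h * t⁻¹ = h⁻¹) (n i : ℤ)
    (hn : t * x ((ζ ^ n : Fˣ) : F) * t⁻¹ =
      x (-((ζ ^ n : Fˣ) : F)⁻¹) * h ^ (-n) * t * x (-((ζ ^ n : Fˣ) : F)⁻¹)) :
    t * x ((ζ ^ (n - 2 * i) : Fˣ) : F) * t⁻¹ =
      x (-((ζ ^ (n - 2 * i) : Fˣ) : F)⁻¹) * h ^ (-(n - 2 * i)) * t *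
        x (-((ζ ^ (n - 2 * i) : Fˣ) : F)⁻¹) := by
  have e1 : x ((ζ ^ (n - 2 * i) : Fˣ) : F) = h ^ (-i) * x ((ζ ^ n : Fˣ) : F) * h ^ (-(-i)) := by
    rw [a2a_conj x h ζ hconj (-i), ← Units.val_mul, ← zpow_add]
    congr 3
    ring
  have e2 : x (-((ζ ^ (n - 2 * i) : Fˣ) : F)⁻¹) =
      h ^ i * x (-((ζ ^ n : Fˣ) : F)⁻¹) * h ^ (-i) := by
    rw [a2a_conj x h ζ hconj i, ← Units.val_inv_eq_inv_val, ← Units.val_inv_eq_inv_val, ← zpow_neg,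
      ← zpow_neg, mul_neg, ← Units.val_mul, ← zpow_add]
    congr 4
    ring
  have e3 : t * h ^ (-i) = h ^ i * t := by
    have := a2a_th_zpow t h hth (-i)
    rw [neg_neg] at this
    rw [← this]
    group
  have e4 : t * h ^ i * t⁻¹ = h ^ (-i) := a2a_th_zpow t h hth i
  have e5 : t * h ^ (-i) * t⁻¹ = h ^ i := by
    have := a2a_th_zpow t h hth (-i)
    rwa [neg_neg] at this
  calc t * x ((ζ ^ (n - 2 * i) : Fˣ) : F) * t⁻¹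
      = t * (h ^ (-i) * x ((ζ ^ n : Fˣ) : F) * h ^ (-(-i))) * t⁻¹ := by rw [e1]
    _ = (t * h ^ (-i) * t⁻¹) * (t * x ((ζ ^ n : Fˣ) : F) * t⁻¹) * (t * h ^ i * t⁻¹) := by
        rw [neg_neg]; group
    _ = h ^ i * (x (-((ζ ^ n : Fˣ) : F)⁻¹) * h ^ (-n) * t * x (-((ζ ^ n : Fˣ) : F)⁻¹)) * h ^ (-i) := by
        rw [e5, hn, e4]
    _ = (h ^ i * x (-((ζ ^ n : Fˣ) : F)⁻¹) * h ^ (-i)) * h ^ (i - n) * (t * h ^ (-i)) *
          (h ^ i * x (-((ζ ^ n : Fˣ) : F)⁻¹) * h ^ (-i)) := by group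
    _ = (h ^ i * x (-((ζ ^ n : Fˣ) : F)⁻¹) * h ^ (-i)) * h ^ (i - n) * (h ^ i * t) *
          (h ^ i * x (-((ζ ^ n : Fˣ) : F)⁻¹) * h ^ (-i)) := by rw [e3]
    _ = (h ^ i * x (-((ζ ^ n : Fˣ) : F)⁻¹) * h ^ (-i)) * h ^ (-(n - 2 * i)) * t *
          (h ^ i * x (-((ζ ^ n : Fˣ) : F)⁻¹) * h ^ (-i)) := by group
    _ = _ := by rw [← e2]

variable [Fintype F]

theorem fam (x : F → G) (t h : G) (ζ : Fˣ) (hadd : ∀ a b, x (a + b) = x a * x b)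
    (hconj : ∀ a, h * x a * h⁻¹ = x ((ζ : F) ^ 2 * a)) (hth : t * h * t⁻¹ = h⁻¹)
    (hfam0 : t * x 1 * t⁻¹ = x (-1) * t * x (-1))
    (hfam1 : t * x (ζ : F) * t⁻¹ = x (-(ζ : F)⁻¹) * h⁻¹ * t * x (-(ζ : F)⁻¹)) (n : ℤ) :
    t * x ((ζ ^ n : Fˣ) : F) * t⁻¹ =
      x (-((ζ ^ n : Fˣ) : F)⁻¹) * h ^ (-n) * t * x (-((ζ ^ n : Fˣ) : F)⁻¹) := by
  have f0 : t * x ((ζ ^ (0 : ℤ) : Fˣ) : F) * t⁻¹ =
      x (-((ζ ^ (0 : ℤ) : Fˣ) : F)⁻¹) * h ^ (-(0 : ℤ)) * t * x (-((ζ ^ (0 : ℤ) : Fˣ) : F)⁻¹) := by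
    rw [zpow_zero, Units.val_one, inv_one, neg_zero, zpow_zero, mul_one]
    exact hfam0
  have f1 : t * x ((ζ ^ (1 : ℤ) : Fˣ) : F) * t⁻¹ =
      x (-((ζ ^ (1 : ℤ) : Fˣ) : F)⁻¹) * h ^ (-(1 : ℤ)) * t * x (-((ζ ^ (1 : ℤ) : Fˣ) : F)⁻¹) := by
    rw [zpow_one, zpow_neg, zpow_one]
    exact hfam1
  rcases Int.even_or_odd' n with ⟨j, hj | hj⟩
  · have := a2a_step x t h ζ hconj hth 0 (-j) f0
    have e : (0 : ℤ) - 2 * (-j) = n := by rw [hj]; ring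
    rwa [e] at this
  · have := a2a_step x t h ζ hconj hth 1 (-j) f1
    have e : (1 : ℤ) - 2 * (-j) = n := by rw [hj]; ring
    rwa [e] at this

theorem a2a_cancel (a b c d : G) (h : a * b * c = a * d * c) : b = d :=
  mul_left_cancel (mul_right_cancel h)

theorem h_pow_card_sub_one (x : F → G) (t h : G) (ζ : Fˣ) (hadd : ∀ a b, x (a + b) = x a * x b)
    (hconj : ∀ a, h * x a * h⁻¹ = x ((ζ : F) ^ 2 * a)) (hth : t * h * t⁻¹ = h⁻¹)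
    (hfam0 : t * x 1 * t⁻¹ = x (-1) * t * x (-1))
    (hfam1 : t * x (ζ : F) * t⁻¹ = x (-(ζ : F)⁻¹) * h⁻¹ * t * x (-(ζ : F)⁻¹)) :
    h ^ (Fintype.card F - 1) = 1 := by
  have hq : ζ ^ ((Fintype.card F - 1 : ℕ) : ℤ) = 1 := by
    rw [zpow_natCast]
    apply Units.ext
    rw [Units.val_pow_eq_pow_val, FiniteField.pow_card_sub_one_eq_one _ ζ.ne_zero, Units.val_one]
  have f := fam x t h ζ hadd hconj hth hfam0 hfam1 ((Fintype.card F - 1 : ℕ) : ℤ)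
  rw [hq, Units.val_one, inv_one, hfam0, mul_assoc (x (-1)) (h ^ _) t] at f
  have h1 : t = h ^ (-((Fintype.card F - 1 : ℕ) : ℤ)) * t := a2a_cancel _ _ _ _ f
  have h2 : h ^ (-((Fintype.card F - 1 : ℕ) : ℤ)) = 1 := by
    have h3 : (1 : G) * t = h ^ (-((Fintype.card F - 1 : ℕ) : ℤ)) * t := by rw [one_mul]; exact h1
    exact (mul_right_cancel h3).symm
  rwa [zpow_neg, inv_eq_one, zpow_natCast] at h2

theorem h_pow_half (x : F → G) (t h : G) (ζ : Fˣ) (hadd : ∀ a b, x (a + b) = x a * x b)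
    (hζ : ∀ a : Fˣ, a ∈ Subgroup.zpowers ζ)
    (hconj : ∀ a, h * x a * h⁻¹ = x ((ζ : F) ^ 2 * a)) (hth : t * h * t⁻¹ = h⁻¹)
    (hfam0 : t * x 1 * t⁻¹ = x (-1) * t * x (-1))
    (hfam1 : t * x (ζ : F) * t⁻¹ = x (-(ζ : F)⁻¹) * h⁻¹ * t * x (-(ζ : F)⁻¹))
    (h2 : (2 : F) ≠ 0) (ht2 : t ^ 2 = 1) :
    h ^ ((Fintype.card F - 1) / 2) = 1 := by
  set M : ℕ := (Fintype.card F - 1) / 2 with hM
  have htt : t * t = 1 := by rw [← pow_two, ht2]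
  -- `2 = ζ ^ n`
  obtain ⟨n, hn⟩ := Subgroup.mem_zpowers_iff.mp (hζ (Units.mk0 2 h2))
  have hn' : ((ζ ^ n : Fˣ) : F) = 2 := by rw [hn, Units.val_mk0]
  -- `-2 = ζ ^ (n + M)`
  have hnM : ((ζ ^ (n + (M : ℤ)) : Fˣ) : F) = -2 := by
    rw [zpow_add, Units.val_mul, hn', zpow_natCast, Units.val_pow_eq_pow_val, zeta_pow_half ζ hζ h2]
    ring
  have f1 := fam x t h ζ hadd hconj hth hfam0 hfam1 n
  have f2 := fam x t h ζ hadd hconj hth hfam0 hfam1 (n + (M : ℤ))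
  rw [hn'] at f1
  rw [hnM] at f2
  -- `(t x(1) t⁻¹)² = t x(2) t⁻¹`
  have g1 : (t * x 1 * t⁻¹) * (t * x 1 * t⁻¹) = t * x 2 * t⁻¹ := by
    have : (t * x 1 * t⁻¹) * (t * x 1 * t⁻¹) = t * (x 1 * x 1) * t⁻¹ := by group
    rw [this, ← hadd, one_add_one_eq_two]
  -- `(x(-1) t x(-1))² = x(-1) (t x(-2) t⁻¹) x(-1)` as `t t = 1`
  have g2 : (x (-1) * t * x (-1)) * (x (-1) * t * x (-1)) =
      x (-1) * (t * x (-2) * t⁻¹) * x (-1) := by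
    have e1 : (x (-1) * t * x (-1)) * (x (-1) * t * x (-1)) =
        x (-1) * t * (x (-1) * x (-1)) * t * x (-1) := by group
    have e2 : x (-1) * (t * x (-2) * t⁻¹) * x (-1) =
        x (-1) * t * x (-2) * t * (t * t)⁻¹ * x (-1) := by group
    rw [e1, e2, htt, ← hadd, inv_one, mul_one]
    norm_num
  have g3 : t * x 2 * t⁻¹ = x (-1) * (t * x (-2) * t⁻¹) * x (-1) := by
    rw [← g1, hfam0, g2]
  rw [f1, f2] at g3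
  -- normalise the right-hand side
  have c1 : x (-1) * x (-(-2 : F)⁻¹) = x (-(2 : F)⁻¹) := by
    rw [← hadd]
    congr 1
    field_simp
    ring
  have c2 : x (-(-2 : F)⁻¹) * x (-1) = x (-(2 : F)⁻¹) := by
    rw [← hadd]
    congr 1
    field_simp
    ring
  have g4 : x (-(2 : F)⁻¹) * (h ^ (-n) * t) * x (-(2 : F)⁻¹) =
      x (-(2 : F)⁻¹) * (h ^ (-(n + (M : ℤ))) * t) * x (-(2 : F)⁻¹) := by
    have e1 : x (-(2 : F)⁻¹) * (h ^ (-n) * t) * x (-(2 : F)⁻¹) =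
        x (-(2 : F)⁻¹) * h ^ (-n) * t * x (-(2 : F)⁻¹) := by group
    have e2 : x (-1) * (x (-(-2 : F)⁻¹) * h ^ (-(n + (M : ℤ))) * t * x (-(-2 : F)⁻¹)) * x (-1) =
        (x (-1) * x (-(-2 : F)⁻¹)) * (h ^ (-(n + (M : ℤ))) * t) * (x (-(-2 : F)⁻¹) * x (-1)) := by
      group
    rw [e1, g3, e2, c1, c2]
  have g5 := mul_right_cancel (a2a_cancel _ _ _ _ g4)
  -- `h ^ (-n) = h ^ (-(n + M))`
  have g6 : h ^ (M : ℤ) = 1 := by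
    have e : h ^ (-n) = h ^ (-n) * (h ^ (M : ℤ))⁻¹ := by
      conv_lhs => rw [g5]
      rw [neg_add, zpow_add, zpow_neg h (M : ℤ)]
    have e' : h ^ (-n) * 1 = h ^ (-n) * (h ^ (M : ℤ))⁻¹ := by rw [mul_one]; exact e
    have := mul_left_cancel e'
    exact inv_eq_one.mp this.symm
  rwa [zpow_natCast] at g6

end A2

end Cfsg.Agent.SL2Pres
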