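import Cfsg.Agent.SL2Pres.Defs

/-!
# S2286, piece A2b (core): Bruhat-type coset enumeration

Given an additive `x : F → G`, elements `t h : G` with `h x(a) h⁻¹ = x(ζ² a)`, `t h t⁻¹ = h⁻¹`,
`t² = h^{M'}`, `h^K = 1` and the family of relations
`t x(ζⁿ) t⁻¹ = x(-ζ⁻ⁿ) h⁻ⁿ t x(-ζ⁻ⁿ)` (all `n : ℤ`), the set
`{x(a) hⁱ} ∪ {x(a) hⁱ t x(b)}` is closed under right multiplication by `x(c)`, `hʲ`, `t`,
hence is all of `G` as soon as `x 1, t, h` generate `G`; so `|G| ≤ q K (q + 1)`.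
-/

set_option autoImplicit false

namespace Cfsg.Agent.SL2Pres

section A2bCore

variable {G : Type*} [Group G] {F : Type*} [Field F]

/-- the set of "Bruhat normal forms" `x(a) hⁱ` and `x(a) hⁱ t x(b)` -/
def bruhatSet (x : F → G) (t h : G) : Set G :=
  {g | (∃ (a : F) (i : ℤ), g = x a * h ^ i) ∨
    ∃ (a : F) (i : ℤ) (b : F), g = x a * h ^ i * t * x b}

theorem h_zpow_mul_x (x : F → G) (h : G) (ζ : Fˣ)
    (hconj : ∀ a, h * x a * h⁻¹ = x ((ζ : F) ^ 2 * a)) (i : ℤ) (a : F) :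
    h ^ i * x a = x ((((ζ ^ 2) ^ i : Fˣ) : F) * a) * h ^ i := by
  have hc : ∀ a, h * x a * h⁻¹ = x (((ζ ^ 2 : Fˣ) : F) * a) := by
    intro a
    rw [hconj, Units.val_pow_eq_pow_val]
  have := x_conj_zpow x h (ζ ^ 2) hc i a
  rw [← this, zpow_neg]
  group

theorem x_mul_h_zpow (x : F → G) (h : G) (ζ : Fˣ)
    (hconj : ∀ a, h * x a * h⁻¹ = x ((ζ : F) ^ 2 * a)) (j : ℤ) (a : F) :
    x a * h ^ j = h ^ j * x ((((ζ ^ 2) ^ (-j) : Fˣ) : F) * a) := by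
  rw [h_zpow_mul_x x h ζ hconj j, ← mul_assoc, ← Units.val_mul, ← zpow_add, add_neg_cancel,
    zpow_zero, Units.val_one, one_mul]

theorem t_mul_h_zpow (t h : G) (hth : t * h * t⁻¹ = h⁻¹) (j : ℤ) :
    t * h ^ j = h ^ (-j) * t := by
  have e : t * h ^ j * t⁻¹ = h ^ (-j) := by
    rw [← conj_zpow, hth, inv_zpow, zpow_neg]
  rw [← e]
  group

theorem one_mem_bruhatSet (x : F → G) (t h : G) (hadd : ∀ a b, x (a + b) = x a * x b) :
    (1 : G) ∈ bruhatSet x t h :=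
  Or.inl ⟨0, 0, by rw [x_zero x hadd, zpow_zero, mul_one]⟩

theorem bruhatSet_mul_x (x : F → G) (t h : G) (ζ : Fˣ) (hadd : ∀ a b, x (a + b) = x a * x b)
    (hconj : ∀ a, h * x a * h⁻¹ = x ((ζ : F) ^ 2 * a)) {g : G} (hg : g ∈ bruhatSet x t h)
    (c : F) : g * x c ∈ bruhatSet x t h := by
  rcases hg with ⟨a, i, rfl⟩ | ⟨a, i, b, rfl⟩
  · left
    refine ⟨a + (((ζ ^ 2) ^ i : Fˣ) : F) * c, i, ?_⟩
    rw [mul_assoc, h_zpow_mul_x x h ζ hconj, ← mul_assoc, ← hadd]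
  · right
    exact ⟨a, i, b + c, by rw [hadd, mul_assoc]⟩

theorem bruhatSet_mul_h (x : F → G) (t h : G) (ζ : Fˣ)
    (hconj : ∀ a, h * x a * h⁻¹ = x ((ζ : F) ^ 2 * a)) (hth : t * h * t⁻¹ = h⁻¹) {g : G}
    (hg : g ∈ bruhatSet x t h) (j : ℤ) : g * h ^ j ∈ bruhatSet x t h := by
  rcases hg with ⟨a, i, rfl⟩ | ⟨a, i, b, rfl⟩
  · left
    exact ⟨a, i + j, by rw [zpow_add, mul_assoc]⟩
  · right
    refine ⟨a, i + -j, (((ζ ^ 2) ^ (-j) : Fˣ) : F) * b, ?_⟩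
    rw [mul_assoc _ (x b), x_mul_h_zpow x h ζ hconj j b, ← mul_assoc, mul_assoc _ t,
      t_mul_h_zpow t h hth j, ← mul_assoc, mul_assoc (x a), ← zpow_add]

theorem bruhatSet_mul_t (x : F → G) (t h : G) (ζ : Fˣ) (hadd : ∀ a b, x (a + b) = x a * x b)
    (hζ : ∀ a : Fˣ, a ∈ Subgroup.zpowers ζ)
    (hconj : ∀ a, h * x a * h⁻¹ = x ((ζ : F) ^ 2 * a)) (hth : t * h * t⁻¹ = h⁻¹)
    (hfam : ∀ n : ℤ, t * x ((ζ ^ n : Fˣ) : F) * t⁻¹ =
      x (-((ζ ^ n : Fˣ) : F)⁻¹) * h ^ (-n) * t * x (-((ζ ^ n : Fˣ) : F)⁻¹))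
    (M' : ℕ) (ht2 : t ^ 2 = h ^ M') {g : G} (hg : g ∈ bruhatSet x t h) :
    g * t ∈ bruhatSet x t h := by
  rcases hg with ⟨a, i, rfl⟩ | ⟨a, i, b, rfl⟩
  · right
    exact ⟨a, i, 0, by rw [x_zero x hadd, mul_one]⟩
  · by_cases hb : b = 0
    · subst hb
      left
      refine ⟨a, i + M', ?_⟩
      rw [x_zero x hadd, mul_one, mul_assoc, ← pow_two, ht2, zpow_add, zpow_natCast, mul_assoc]
    · obtain ⟨n, hn⟩ := hζ (Units.mk0 b hb)
      have hn' : ζ ^ n = Units.mk0 b hb := hn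
      have hb' : ((ζ ^ n : Fˣ) : F) = b := by rw [hn']; rfl
      have key := hfam n
      rw [hb'] at key
      have e : x a * h ^ i * t * x b * t =
          x (a + (((ζ ^ 2) ^ i : Fˣ) : F) * (-b⁻¹)) * h ^ (i + -n) * t * x (-b⁻¹) * h ^ (M' : ℤ) := by
        have e1 : t * x b * t = t * x b * t⁻¹ * t ^ 2 := by group
        have e2 : x a * h ^ i * t * x b * t = x a * (h ^ i * x (-b⁻¹)) * h ^ (-n) * t * x (-b⁻¹) *
            h ^ (M' : ℤ) := by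
          calc x a * h ^ i * t * x b * t = x a * h ^ i * (t * x b * t) := by group
            _ = x a * h ^ i * (x (-b⁻¹) * h ^ (-n) * t * x (-b⁻¹) * h ^ M') := by
                rw [e1, key, ht2]
            _ = _ := by rw [zpow_natCast]; simp only [mul_assoc]
        rw [e2, h_zpow_mul_x x h ζ hconj, hadd, zpow_add]
        simp only [mul_assoc]
      rw [e]
      exact bruhatSet_mul_h x t h ζ hconj hth (Or.inr ⟨_, _, _, rfl⟩) _

theorem mem_bruhatSet (x : F → G) (t h : G) (ζ : Fˣ) (hadd : ∀ a b, x (a + b) = x a * x b)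
    (hζ : ∀ a : Fˣ, a ∈ Subgroup.zpowers ζ)
    (hconj : ∀ a, h * x a * h⁻¹ = x ((ζ : F) ^ 2 * a)) (hth : t * h * t⁻¹ = h⁻¹)
    (hfam : ∀ n : ℤ, t * x ((ζ ^ n : Fˣ) : F) * t⁻¹ =
      x (-((ζ ^ n : Fˣ) : F)⁻¹) * h ^ (-n) * t * x (-((ζ ^ n : Fˣ) : F)⁻¹))
    (M' : ℕ) (ht2 : t ^ 2 = h ^ M') (hgen : Subgroup.closure {x 1, t, h} = ⊤) (g : G) :
    g ∈ bruhatSet x t h := by
  have hg : g ∈ Subgroup.closure {x 1, t, h} := by rw [hgen]; trivial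
  have hmt : ∀ y ∈ bruhatSet x t h, y * t ∈ bruhatSet x t h := fun y hy =>
    bruhatSet_mul_t x t h ζ hadd hζ hconj hth hfam M' ht2 hy
  have hmh : ∀ y ∈ bruhatSet x t h, ∀ j : ℤ, y * h ^ j ∈ bruhatSet x t h := fun y hy j =>
    bruhatSet_mul_h x t h ζ hconj hth hy j
  have hmx : ∀ y ∈ bruhatSet x t h, ∀ c : F, y * x c ∈ bruhatSet x t h := fun y hy c =>
    bruhatSet_mul_x x t h ζ hadd hconj hy c
  have htinv : t⁻¹ = t * h ^ (-(M' : ℤ)) := by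
    have : t⁻¹ = t * (t ^ 2)⁻¹ := by group
    rw [this, ht2, zpow_neg, zpow_natCast]
  induction hg using Subgroup.closure_induction_right with
  | one => exact one_mem_bruhatSet x t h hadd
  | mul_right y hy z hz ih =>
    rcases hz with rfl | rfl | rfl
    · exact hmx y ih 1
    · exact hmt y ih
    · have := hmh y ih 1
      rwa [zpow_one] at this
  | mul_inv_cancel y hy z hz ih =>
    rcases hz with rfl | rfl | rfl
    · have := hmx y ih (-1)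
      rwa [x_neg x hadd] at this
    · rw [htinv, ← mul_assoc]
      exact hmh _ (hmt y ih) _
    · have := hmh y ih (-1)
      rwa [zpow_neg, zpow_one] at this

theorem h_zpow_emod (h : G) (K : ℕ) (hK : 0 < K) (hK1 : h ^ K = 1) (i : ℤ) :
    h ^ i = h ^ ((i % (K : ℤ)).toNat) := by
  have hK' : (K : ℤ) ≠ 0 := by exact_mod_cast hK.ne'
  have h0 : 0 ≤ i % (K : ℤ) := Int.emod_nonneg i hK'
  have e : i = (K : ℤ) * (i / K) + i % K := (Int.mul_ediv_add_emod i K).symm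
  conv_lhs => rw [e]
  rw [zpow_add, zpow_mul, zpow_natCast, hK1, one_zpow, one_mul, ← zpow_natCast,
    Int.toNat_of_nonneg h0]

theorem emod_toNat_lt (K : ℕ) (hK : 0 < K) (i : ℤ) : (i % (K : ℤ)).toNat < K := by
  have hK' : (0 : ℤ) < K := by exact_mod_cast hK
  have h1 : i % (K : ℤ) < K := Int.emod_lt_of_pos i hK'
  have h0 : 0 ≤ i % (K : ℤ) := Int.emod_nonneg i hK'.ne'
  omega

/-- the parametrisation of the Bruhat normal forms by the finite set `F × Fin K × Option F` -/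
def bruhatMap (x : F → G) (t h : G) (K : ℕ) : F × Fin K × Option F → G
  | (a, i, none) => x a * h ^ (i : ℕ)
  | (a, i, some b) => x a * h ^ (i : ℕ) * t * x b

theorem bruhatMap_surjective (x : F → G) (t h : G) (ζ : Fˣ)
    (hadd : ∀ a b, x (a + b) = x a * x b)
    (hζ : ∀ a : Fˣ, a ∈ Subgroup.zpowers ζ)
    (hconj : ∀ a, h * x a * h⁻¹ = x ((ζ : F) ^ 2 * a)) (hth : t * h * t⁻¹ = h⁻¹)
    (hfam : ∀ n : ℤ, t * x ((ζ ^ n : Fˣ) : F) * t⁻¹ =
      x (-((ζ ^ n : Fˣ) : F)⁻¹) * h ^ (-n) * t * x (-((ζ ^ n : Fˣ) : F)⁻¹))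
    (M' K : ℕ) (hK : 0 < K) (hK1 : h ^ K = 1) (ht2 : t ^ 2 = h ^ M')
    (hgen : Subgroup.closure {x 1, t, h} = ⊤) :
    Function.Surjective (bruhatMap x t h K) := by
  intro g
  rcases mem_bruhatSet x t h ζ hadd hζ hconj hth hfam M' ht2 hgen g with
    ⟨a, i, rfl⟩ | ⟨a, i, b, rfl⟩
  · refine ⟨(a, ⟨(i % (K : ℤ)).toNat, emod_toNat_lt K hK i⟩, none), ?_⟩
    show x a * h ^ ((i % (K : ℤ)).toNat) = _
    rw [← h_zpow_emod h K hK hK1 i]
  · refine ⟨(a, ⟨(i % (K : ℤ)).toNat, emod_toNat_lt K hK i⟩, some b), ?_⟩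
    show x a * h ^ ((i % (K : ℤ)).toNat) * t * x b = _
    rw [← h_zpow_emod h K hK hK1 i]

/-- **A2b, modulo the family of relations `fam`** -/
theorem finite_and_card_le_of_fam [Fintype F] (x : F → G) (t h : G) (ζ : Fˣ)
    (hadd : ∀ a b, x (a + b) = x a * x b)
    (hζ : ∀ a : Fˣ, a ∈ Subgroup.zpowers ζ)
    (hconj : ∀ a, h * x a * h⁻¹ = x ((ζ : F) ^ 2 * a)) (hth : t * h * t⁻¹ = h⁻¹)
    (hfam : ∀ n : ℤ, t * x ((ζ ^ n : Fˣ) : F) * t⁻¹ =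
      x (-((ζ ^ n : Fˣ) : F)⁻¹) * h ^ (-n) * t * x (-((ζ ^ n : Fˣ) : F)⁻¹))
    (M' K : ℕ) (hK : 0 < K) (hK1 : h ^ K = 1) (ht2 : t ^ 2 = h ^ M')
    (hgen : Subgroup.closure {x 1, t, h} = ⊤) :
    Finite G ∧ Nat.card G ≤ Fintype.card F * K * (Fintype.card F + 1) := by
  have hs := bruhatMap_surjective x t h ζ hadd hζ hconj hth hfam M' K hK hK1 ht2 hgen
  have hfin : Finite G := Finite.of_surjective _ hs
  refine ⟨hfin, ?_⟩
  have hle := Nat.card_le_card_of_surjective _ hs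
  have hc : Nat.card (F × Fin K × Option F) = Fintype.card F * K * (Fintype.card F + 1) := by
    rw [Nat.card_eq_fintype_card, Fintype.card_prod, Fintype.card_prod, Fintype.card_fin,
      Fintype.card_option, mul_assoc]
  rw [hc] at hle
  exact hle

end A2bCore

end Cfsg.Agent.SL2Pres
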