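import Cfsg.Agent.SL2Pres.A2a
import Cfsg.Agent.SL2Pres.A2bCore

/-!
# Presentations of `SL₂(F)`: the Bruhat count (piece A2b), from `A2bCore` (helper8) and `fam` (helper5)
-/

set_option autoImplicit false

namespace Cfsg.Agent.SL2Pres

section A2

variable {G : Type*} [Group G] {F : Type*} [Field F] [Fintype F]

theorem finite_and_card_le (x : F → G) (t h : G) (ζ : Fˣ) (hadd : ∀ a b, x (a + b) = x a * x b)
    (hζ : ∀ a : Fˣ, a ∈ Subgroup.zpowers ζ)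
    (hconj : ∀ a, h * x a * h⁻¹ = x ((ζ : F) ^ 2 * a)) (hth : t * h * t⁻¹ = h⁻¹)
    (hfam0 : t * x 1 * t⁻¹ = x (-1) * t * x (-1))
    (hfam1 : t * x (ζ : F) * t⁻¹ = x (-(ζ : F)⁻¹) * h⁻¹ * t * x (-(ζ : F)⁻¹))
    (M' K : ℕ) (hK : 0 < K) (hK1 : h ^ K = 1) (ht2 : t ^ 2 = h ^ M')
    (hgen : Subgroup.closure {x 1, t, h} = ⊤) :
    Finite G ∧ Nat.card G ≤ Fintype.card F * K * (Fintype.card F + 1) :=
  finite_and_card_le_of_fam x t h ζ hadd hζ hconj hth (fam x t h ζ hadd hconj hth hfam0 hfam1)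
    M' K hK hK1 ht2 hgen

end A2

end Cfsg.Agent.SL2Pres
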