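import Cfsg.Agent.SL2Pres.A1
import Cfsg.Agent.SL2Pres.A2a
import Cfsg.Agent.SL2Pres.A2b
import Cfsg.Agent.SL2Pres.Fd

/-!
# Presentations of `SL₂(F)`: the abstract group side (piece C1)
-/

set_option autoImplicit false

namespace Cfsg.Agent.SL2Pres

open Polynomial

/-- a surjection from a presented group that is at most as large as the target is an isomorphism -/
theorem iso_of_surjective {G : Type*} [Group G] {T : Type*} [Group T]
    (φ : G →* T) (hφ : Function.Surjective φ)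
    (hfin : Finite G) (hcard : Nat.card G ≤ Nat.card T) :
    Nonempty (G ≃* T) := by
  have hbij : Function.Bijective φ := hφ.bijective_of_nat_card_le hcard
  exact ⟨MulEquiv.ofBijective φ hbij⟩

section gside

variable {G : Type*} [Group G] {F : Type*} [Field F] [Fintype F] {p : ℕ} [Fact p.Prime]
  [Algebra (ZMod p) F]

/-- **The abstract group side.** -/
theorem gside (ζ : Fˣ) (hζ : ∀ a : Fˣ, a ∈ Subgroup.zpowers ζ) (u t h : G)
    (hgen : Subgroup.closure {u, t, h} = ⊤) (hu : u ^ p = 1)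
    (hcomm : ∀ i j : ℤ, Commute (cj h u i) (cj h u j))
    (hm : polyProd h u (minpoly (ZMod p) ((ζ : F) ^ 2)) = 1)
    (hth : t * h * t⁻¹ = h⁻¹) (M' : ℕ) (ht2 : t ^ 2 = h ^ M')
    (hfam0 : t * u * t⁻¹ = u⁻¹ * t * u⁻¹)
    (Pζ Pν : (ZMod p)[X]) (hPζ : aeval ((ζ : F) ^ 2) Pζ = (ζ : F))
    (hPν : aeval ((ζ : F) ^ 2) Pν = -(ζ : F)⁻¹)
    (hν : t * polyProd h u Pζ * t⁻¹ = polyProd h u Pν * h⁻¹ * t * polyProd h u Pν) :
    Finite G ∧ Nat.card G ≤ Fintype.card F * (Fintype.card F - 1) * (Fintype.card F + 1) ∧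
      ((2 : F) ≠ 0 → t ^ 2 = 1 →
        Nat.card G ≤ Fintype.card F * ((Fintype.card F - 1) / 2) * (Fintype.card F + 1)) := by
  obtain ⟨x, hadd, hx1, hconj⟩ := exists_hom ((ζ : F) ^ 2) (adjoin_sq_eq_top ζ hζ) h u hu hcomm hm
  have hxm1 : x (-1) = u⁻¹ := by rw [x_neg x hadd, hx1]
  have hf0 : t * x 1 * t⁻¹ = x (-1) * t * x (-1) := by rw [hx1, hxm1]; exact hfam0
  have hf1 : t * x (ζ : F) * t⁻¹ = x (-(ζ : F)⁻¹) * h⁻¹ * t * x (-(ζ : F)⁻¹) := by
    have e1 := polyProd_eq x hadd h u _ hx1 hconj Pζ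
    have e2 := polyProd_eq x hadd h u _ hx1 hconj Pν
    rw [hPζ] at e1
    rw [hPν] at e2
    rw [← e1, ← e2]
    exact hν
  have hgen' : Subgroup.closure {x 1, t, h} = ⊤ := by rw [hx1]; exact hgen
  have hq : 2 ≤ Fintype.card F := Fintype.one_lt_card
  have hK := h_pow_card_sub_one x t h ζ hadd hconj hth hf0 hf1
  have main := finite_and_card_le x t h ζ hadd hζ hconj hth hf0 hf1 M' (Fintype.card F - 1)
    (by omega) hK ht2 hgen'
  refine ⟨main.1, main.2, ?_⟩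
  intro h2 ht1
  have hK2 := h_pow_half x t h ζ hadd hζ hconj hth hf0 hf1 h2 ht1
  have hodd : Fintype.card F % 2 = 1 :=
    FiniteField.odd_card_of_char_ne_two (fun hc => h2 (fd_two_eq_zero_iff.mpr hc))
  have ht2' : t ^ 2 = h ^ 0 := by rw [pow_zero]; exact ht1
  exact (finite_and_card_le x t h ζ hadd hζ hconj hth hf0 hf1 0 ((Fintype.card F - 1) / 2)
    (by omega) hK2 ht2' hgen').2

end gside

end Cfsg.Agent.SL2Pres
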