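import Cfsg.Agent.SL2Pres.B
import Cfsg.Agent.SL2Pres.Fd

/-!
# Presentations of `SL₂(F)`: the relation words and their images (piece C2)
-/

set_option autoImplicit false

namespace Cfsg.Agent.SL2Pres

open Polynomial

/-- the three generators -/
def wU : FreeGroup (Fin 3) := FreeGroup.of 0
def wT : FreeGroup (Fin 3) := FreeGroup.of 1
def wH : FreeGroup (Fin 3) := FreeGroup.of 2

/-- `U^p` -/
def rU (p : ℕ) : FreeGroup (Fin 3) := wU ^ p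
/-- `[X_0, X_i]` -/
def rC (i : ℤ) : FreeGroup (Fin 3) := wU * cj wH wU i * (cj wH wU i * wU)⁻¹
/-- `X_k = X_2 X_1² X_0` -/
def rKodd (k : ℕ) : FreeGroup (Fin 3) :=
  cj wH wU (k : ℤ) * (cj wH wU 2 * cj wH wU 1 ^ 2 * wU)⁻¹
/-- `X_k = X_0 X_1` -/
def rKeven (k : ℕ) : FreeGroup (Fin 3) := cj wH wU (k : ℤ) * (wU * cj wH wU 1)⁻¹
/-- the `m`-relation -/
noncomputable def rM {p : ℕ} (P : (ZMod p)[X]) : FreeGroup (Fin 3) := polyProd wH wU P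
/-- `T H T⁻¹ = H⁻¹` -/
def rTH : FreeGroup (Fin 3) := wT * wH * wT⁻¹ * (wH⁻¹)⁻¹
/-- `T² = H^M` -/
def rT2 (M : ℕ) : FreeGroup (Fin 3) := wT ^ 2 * (wH ^ M)⁻¹
/-- `T U T⁻¹ = U⁻¹ T U⁻¹` -/
def rR3 : FreeGroup (Fin 3) := wT * wU * wT⁻¹ * (wU⁻¹ * wT * wU⁻¹)⁻¹
/-- `U T U = T U T` -/
def rBr : FreeGroup (Fin 3) := wU * wT * wU * (wT * wU * wT)⁻¹
/-- `T x(ζ) T⁻¹ = x(-ζ⁻¹) H⁻¹ T x(-ζ⁻¹)` -/
noncomputable def rNu {p : ℕ} (Pζ Pν : (ZMod p)[X]) : FreeGroup (Fin 3) :=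
  wT * polyProd wH wU Pζ * wT⁻¹ * (polyProd wH wU Pν * wH⁻¹ * wT * polyProd wH wU Pν)⁻¹

section maps

variable {G : Type*} [Group G] (ψ : FreeGroup (Fin 3) →* G)

theorem rU_iff (p : ℕ) : ψ (rU p) = 1 ↔ ψ wU ^ p = 1 := by
  rw [rU, map_pow]

theorem rC_iff (i : ℤ) : ψ (rC i) = 1 ↔ Commute (ψ wU) (cj (ψ wH) (ψ wU) i) := by
  rw [rC, map_mul, map_inv, mul_inv_eq_one, map_mul, map_mul, map_cj]
  exact Iff.rfl

theorem rKodd_iff (k : ℕ) : ψ (rKodd k) = 1 ↔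
    cj (ψ wH) (ψ wU) (k : ℤ) = cj (ψ wH) (ψ wU) 2 * cj (ψ wH) (ψ wU) 1 ^ 2 * ψ wU := by
  rw [rKodd, map_mul, map_inv, mul_inv_eq_one, map_mul, map_mul, map_pow, map_cj, map_cj, map_cj]

theorem rKeven_iff (k : ℕ) : ψ (rKeven k) = 1 ↔
    cj (ψ wH) (ψ wU) (k : ℤ) = ψ wU * cj (ψ wH) (ψ wU) 1 := by
  rw [rKeven, map_mul, map_inv, mul_inv_eq_one, map_mul, map_cj, map_cj]

theorem rM_iff {p : ℕ} (P : (ZMod p)[X]) : ψ (rM P) = 1 ↔ polyProd (ψ wH) (ψ wU) P = 1 := by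
  rw [rM, map_polyProd]

theorem rTH_iff : ψ rTH = 1 ↔ ψ wT * ψ wH * (ψ wT)⁻¹ = (ψ wH)⁻¹ := by
  rw [rTH, map_mul, map_inv, mul_inv_eq_one, map_mul, map_mul, map_inv, map_inv]

theorem rT2_iff (M : ℕ) : ψ (rT2 M) = 1 ↔ ψ wT ^ 2 = ψ wH ^ M := by
  rw [rT2, map_mul, map_inv, mul_inv_eq_one, map_pow, map_pow]

theorem rR3_iff : ψ rR3 = 1 ↔ ψ wT * ψ wU * (ψ wT)⁻¹ = (ψ wU)⁻¹ * ψ wT * (ψ wU)⁻¹ := by
  rw [rR3, map_mul, map_inv, mul_inv_eq_one]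
  simp only [map_mul, map_inv]

theorem rBr_iff : ψ rBr = 1 ↔ ψ wU * ψ wT * ψ wU = ψ wT * ψ wU * ψ wT := by
  rw [rBr, map_mul, map_inv, mul_inv_eq_one]
  simp only [map_mul]

theorem rNu_iff {p : ℕ} (Pζ Pν : (ZMod p)[X]) : ψ (rNu Pζ Pν) = 1 ↔
    ψ wT * polyProd (ψ wH) (ψ wU) Pζ * (ψ wT)⁻¹ =
      polyProd (ψ wH) (ψ wU) Pν * (ψ wH)⁻¹ * ψ wT * polyProd (ψ wH) (ψ wU) Pν := by
  rw [rNu, map_mul, map_inv, mul_inv_eq_one]
  simp only [map_mul, map_inv, map_polyProd]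

end maps

/-- generation of a presented group on three generators -/
theorem closure_gens (rels : Set (FreeGroup (Fin 3))) :
    Subgroup.closure {PresentedGroup.mk rels wU, PresentedGroup.mk rels wT,
      PresentedGroup.mk rels wH} = ⊤ := by
  have h := PresentedGroup.closure_range_of rels
  have e : Set.range (PresentedGroup.of (rels := rels)) =
      {PresentedGroup.mk rels wU, PresentedGroup.mk rels wT, PresentedGroup.mk rels wH} := by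
    ext g
    constructor
    · rintro ⟨i, rfl⟩
      fin_cases i
      · left; rfl
      · right; left; rfl
      · right; right; rfl
    · rintro (rfl | rfl | rfl)
      · exact ⟨0, rfl⟩
      · exact ⟨1, rfl⟩
      · exact ⟨2, rfl⟩
  rw [← e]; exact h

/-! ### The matrix side -/

section matrices

open Matrix

variable {F : Type*} [Field F]

/-- the images of the generators -/
def gensM (ζ : Fˣ) : Fin 3 → SpecialLinearGroup (Fin 2) F := ![xM 1, tM, hM ζ]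

/-- the homomorphism from the free group -/
def liftM (ζ : Fˣ) : FreeGroup (Fin 3) →* SpecialLinearGroup (Fin 2) F := FreeGroup.lift (gensM ζ)

theorem liftM_U (ζ : Fˣ) : liftM ζ wU = xM (1 : F) := by
  simp [liftM, wU, gensM]

theorem liftM_T (ζ : Fˣ) : liftM ζ wT = (tM : SpecialLinearGroup (Fin 2) F) := by
  simp [liftM, wT, gensM]

theorem liftM_H (ζ : Fˣ) : liftM ζ wH = hM ζ := by
  simp [liftM, wH, gensM]

theorem hM_one : hM (1 : Fˣ) = (1 : SpecialLinearGroup (Fin 2) F) := by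
  have h := hM_mul (1 : Fˣ) (1 : Fˣ) (F := F)
  rw [mul_one] at h
  exact (mul_eq_left.mp h.symm)

/-- `hM` as a monoid homomorphism -/
def hMHom : Fˣ →* SpecialLinearGroup (Fin 2) F where
  toFun := hM
  map_one' := hM_one
  map_mul' := hM_mul

theorem hM_pow (a : Fˣ) (n : ℕ) : hM (a ^ n) = (hM a : SpecialLinearGroup (Fin 2) F) ^ n :=
  map_pow hMHom a n

theorem hM_inv (a : Fˣ) : hM a⁻¹ = (hM a : SpecialLinearGroup (Fin 2) F)⁻¹ :=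
  map_inv hMHom a

theorem hM_zpow (a : Fˣ) (n : ℤ) : hM (a ^ n) = (hM a : SpecialLinearGroup (Fin 2) F) ^ n :=
  map_zpow hMHom a n

theorem cjM (ζ : Fˣ) (i : ℤ) :
    cj (hM ζ) (xM (1 : F)) i = xM ((((ζ ^ 2) ^ i : Fˣ) : F)) := by
  have := x_conj_zpow (xM (F := F)) (hM ζ) (ζ ^ 2)
    (fun a => by rw [hM_conj]; simp) i 1
  rw [mul_one] at this
  exact this

theorem polyProdM {p : ℕ} [Fact p.Prime] [Algebra (ZMod p) F] (ζ : Fˣ) (P : (ZMod p)[X]) :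
    polyProd (hM ζ) (xM (1 : F)) P = xM (aeval ((ζ : F) ^ 2) P) :=
  polyProd_eq xM xM_add (hM ζ) (xM 1) ((ζ : F) ^ 2) rfl (hM_conj ζ) P

theorem xM_zero : xM (0 : F) = 1 := x_zero xM xM_add

/-- the relations hold in `SL₂(F)` -/
theorem liftM_rU (ζ : Fˣ) (p : ℕ) [CharP F p] : liftM ζ (rU p) = 1 := by
  rw [rU_iff, liftM_U]; exact xM_pow_char p

theorem liftM_rC (ζ : Fˣ) (i : ℤ) : liftM ζ (rC i) = 1 := by
  rw [rC_iff, liftM_U, liftM_H, cjM]; exact x_comm xM xM_add _ _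

theorem liftM_rKodd (ζ : Fˣ) (k : ℕ) (hk : ((ζ : F) ^ 2) ^ k = ((ζ : F) ^ 2 + 1) ^ 2) :
    liftM ζ (rKodd k) = 1 := by
  rw [rKodd_iff, liftM_U, liftM_H, cjM, cjM, cjM, ← x_nsmul xM xM_add, ← xM_add]
  have e : xM (1 : F) = xM (((ζ ^ 2) ^ (0 : ℤ) : Fˣ) : F) := by simp
  rw [e, ← xM_add]
  congr 1
  push_cast
  simp only [zpow_natCast, zpow_ofNat, zpow_one, zpow_zero, nsmul_eq_mul, Nat.cast_ofNat]
  rw [hk]; ring

theorem liftM_rKeven (ζ : Fˣ) (k : ℕ) (hk : ((ζ : F) ^ 2) ^ k = (ζ : F) ^ 2 + 1) :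
    liftM ζ (rKeven k) = 1 := by
  rw [rKeven_iff, liftM_U, liftM_H, cjM, cjM]
  have e : xM (1 : F) = xM (((ζ ^ 2) ^ (0 : ℤ) : Fˣ) : F) := by simp
  rw [e, ← xM_add]
  congr 1
  push_cast
  simp only [zpow_natCast, zpow_one, zpow_zero]
  rw [hk]; ring

theorem liftM_rM {p : ℕ} [Fact p.Prime] [Algebra (ZMod p) F] (ζ : Fˣ) :
    liftM ζ (rM (minpoly (ZMod p) ((ζ : F) ^ 2))) = 1 := by
  rw [rM_iff, liftM_U, liftM_H, polyProdM, minpoly.aeval, xM_zero]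

theorem liftM_rTH (ζ : Fˣ) : liftM ζ rTH = 1 := by
  rw [rTH_iff, liftM_T, liftM_H]; exact tM_hM ζ

theorem liftM_rT2 (ζ : Fˣ) (M : ℕ) (hM1 : (ζ : F) ^ M = -1) : liftM ζ (rT2 M) = 1 := by
  rw [rT2_iff, liftM_T, liftM_H, tM_sq, ← hM_pow]
  congr 1
  apply Units.ext
  rw [Units.val_pow_eq_pow_val, hM1]; simp

theorem liftM_rR3 (ζ : Fˣ) : liftM ζ rR3 = 1 := by
  rw [rR3_iff, liftM_T, liftM_U]
  have h := tM_xM (1 : Fˣ) (F := F)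
  rw [hM_one] at h
  simp only [Units.val_one, inv_one, mul_one] at h
  rw [h, x_neg xM xM_add]

theorem liftM_rNu {p : ℕ} [Fact p.Prime] [Algebra (ZMod p) F] (ζ : Fˣ) (Pζ Pν : (ZMod p)[X])
    (hPζ : aeval ((ζ : F) ^ 2) Pζ = (ζ : F)) (hPν : aeval ((ζ : F) ^ 2) Pν = -(ζ : F)⁻¹) :
    liftM ζ (rNu Pζ Pν) = 1 := by
  rw [rNu_iff, liftM_T, liftM_U, liftM_H, polyProdM, polyProdM, hPζ, hPν]
  exact tM_xM ζ

end matrices

end Cfsg.Agent.SL2Pres
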