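import Cfsg.Agent.SL2Pres.C1
import Cfsg.Agent.SL2Pres.C2
import Cfsg.Agent.Helper7.LinearCard

/-!
# Presentations of `SL₂(F)` and `PSL₂(F)`: assembly (piece C3)
-/

set_option autoImplicit false

namespace Cfsg.Agent.SL2Pres

open Polynomial Matrix

/-- from a list of relators to a finite presentation -/
theorem pres_wrap {T : Type*} [Group T] (L : List (FreeGroup (Fin 3))) (n : ℕ) (hn : L.length ≤ n)
    (φ0 : FreeGroup (Fin 3) →* T) (hsurj : Function.Surjective φ0) (hrel : ∀ r ∈ L, φ0 r = 1)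
    (hG : ∀ rels : Set (FreeGroup (Fin 3)), (∀ r ∈ L, r ∈ rels) →
      Finite (PresentedGroup rels) ∧ Nat.card (PresentedGroup rels) ≤ Nat.card T) :
    ∃ rels : Finset (FreeGroup (Fin 3)), rels.card ≤ n ∧
      Nonempty (PresentedGroup (↑rels : Set (FreeGroup (Fin 3))) ≃* T) := by
  classical
  refine ⟨L.toFinset, (List.toFinset_card_le L).trans hn, ?_⟩
  have hlift : FreeGroup.lift (fun i => φ0 (FreeGroup.of i)) = φ0 := by
    ext i; simp
  have hr : ∀ r ∈ (↑L.toFinset : Set (FreeGroup (Fin 3))),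
      FreeGroup.lift (fun i => φ0 (FreeGroup.of i)) r = 1 := by
    intro r hr
    rw [hlift]
    exact hrel r (by simpa using hr)
  obtain ⟨hfin, hcard⟩ := hG (↑L.toFinset) (fun r hr => by simpa using hr)
  refine iso_of_surjective (PresentedGroup.toGroup hr) ?_ hfin hcard
  intro y
  obtain ⟨w, rfl⟩ := hsurj y
  refine ⟨PresentedGroup.mk _ w, ?_⟩
  have : PresentedGroup.toGroup hr (PresentedGroup.mk _ w) =
      FreeGroup.lift (fun i => φ0 (FreeGroup.of i)) w := rfl
  rw [this, hlift]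

section card

variable {F : Type*} [Field F] [Fintype F]

theorem card_SL2' : Nat.card (SpecialLinearGroup (Fin 2) F) =
    Fintype.card F * (Fintype.card F - 1) * (Fintype.card F + 1) := by
  have h1 := Matrix.card_GL_field (𝔽 := F) 2
  have h2 := Cfsg.Agent.Helper7.card_units_mul_card_SL (n := Fin 2) (F := F)
  have hq : 2 ≤ Fintype.card F := Fintype.one_lt_card
  rw [h1] at h2
  simp only [Fin.prod_univ_two, Fin.val_zero, pow_zero, Fin.val_one, pow_one] at h2
  obtain ⟨q, hqq⟩ : ∃ q, q = Fintype.card F := ⟨_, rfl⟩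
  rw [← hqq] at h2 hq ⊢
  obtain ⟨j, rfl⟩ : ∃ j, q = j + 2 := ⟨q - 2, by omega⟩
  have e1 : (j + 2) ^ 2 - 1 = (j + 1) * (j + 3) := by
    apply Nat.sub_eq_of_eq_add; ring
  have e2 : (j + 2) ^ 2 - (j + 2) = (j + 2) * (j + 1) := by
    apply Nat.sub_eq_of_eq_add; ring
  rw [e1, e2] at h2
  have e3 : j + 2 - 1 = j + 1 := by omega
  rw [e3] at h2 ⊢
  have hpos : 0 < j + 1 := by omega
  apply Nat.eq_of_mul_eq_mul_left hpos
  rw [h2]; ring

end card

end Cfsg.Agent.SL2Pres
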