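import Mathlib

/-!
# Presentations of `SL₂(F)` and `PSL₂(F)`: basic definitions

`cj h u i = h^i u h^{-i}` (`i : ℤ`) and the "polynomial word"
`polyProd h u P = ∏_{i ≤ deg P} (h^i u h^{-i})^{(coeff P i).val}` for `P : (ZMod p)[X]`.
-/

set_option autoImplicit false

namespace Cfsg.Agent.SL2Pres

open Polynomial

variable {G : Type*} [Group G] {G' : Type*} [Group G']

/-- the conjugate `h^i u h^{-i}` -/
def cj (h u : G) (i : ℤ) : G := h ^ i * u * h ^ (-i)

theorem cj_zero (h u : G) : cj h u 0 = u := by simp [cj]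

theorem cj_one (h u : G) : cj h u 1 = h * u * h⁻¹ := by simp [cj]

theorem cj_conj (h u : G) (j i : ℤ) : h ^ j * cj h u i * h ^ (-j) = cj h u (j + i) := by
  unfold cj
  rw [neg_add, zpow_add, zpow_add]
  group

theorem cj_conj' (h u : G) (j i : ℤ) : h ^ j * cj h u i * (h ^ j)⁻¹ = cj h u (j + i) := by
  rw [← zpow_neg, cj_conj]

theorem cj_succ (h u : G) (i : ℤ) : h * cj h u i * h⁻¹ = cj h u (i + 1) := by
  have := cj_conj h u 1 i
  rw [zpow_neg, zpow_one] at this
  rw [this, add_comm]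

theorem cj_pow (h u : G) (i : ℤ) (n : ℕ) : cj h u i ^ n = cj h (u ^ n) i := by
  unfold cj
  rw [zpow_neg, conj_pow]

theorem cj_inv (h u : G) (i : ℤ) : (cj h u i)⁻¹ = cj h u⁻¹ i := by
  unfold cj
  rw [zpow_neg]
  group

theorem map_cj (f : G →* G') (h u : G) (i : ℤ) : f (cj h u i) = cj (f h) (f u) i := by
  simp [cj, map_zpow]

theorem cj_commute_iff (h u : G) (i j : ℤ) :
    Commute (cj h u i) (cj h u j) ↔ Commute u (cj h u (j - i)) := by
  have e1 : cj h u i = h ^ i * u * (h ^ i)⁻¹ := by rw [cj, zpow_neg]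
  have e2 : cj h u j = h ^ i * cj h u (j - i) * (h ^ i)⁻¹ := by
    rw [cj_conj']; congr 1; ring
  rw [e1, e2]
  constructor
  · intro hc
    have := hc.eq
    have h3 : u * cj h u (j - i) = cj h u (j - i) * u := by
      have h4 : (h ^ i)⁻¹ * (h ^ i * u * (h ^ i)⁻¹ * (h ^ i * cj h u (j - i) * (h ^ i)⁻¹)) * h ^ i
          = (h ^ i)⁻¹ * (h ^ i * cj h u (j - i) * (h ^ i)⁻¹ * (h ^ i * u * (h ^ i)⁻¹)) * h ^ i := by
        rw [this]
      simpa [mul_assoc] using h4
    exact h3
  · intro hc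
    have := hc.eq
    show h ^ i * u * (h ^ i)⁻¹ * (h ^ i * cj h u (j - i) * (h ^ i)⁻¹) =
      h ^ i * cj h u (j - i) * (h ^ i)⁻¹ * (h ^ i * u * (h ^ i)⁻¹)
    have e3 : h ^ i * u * (h ^ i)⁻¹ * (h ^ i * cj h u (j - i) * (h ^ i)⁻¹) =
        h ^ i * (u * cj h u (j - i)) * (h ^ i)⁻¹ := by group
    have e4 : h ^ i * cj h u (j - i) * (h ^ i)⁻¹ * (h ^ i * u * (h ^ i)⁻¹) =
        h ^ i * (cj h u (j - i) * u) * (h ^ i)⁻¹ := by group
    rw [e3, e4, this]

/-- the word `∏_{i ≤ deg P} (h^i u h^{-i})^{(coeff P i).val}` -/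
noncomputable def polyProd {p : ℕ} (h u : G) (P : (ZMod p)[X]) : G :=
  ((List.range (P.natDegree + 1)).map fun i : ℕ => cj h u (i : ℤ) ^ (P.coeff i).val).prod

theorem map_polyProd {p : ℕ} (f : G →* G') (h u : G) (P : (ZMod p)[X]) :
    f (polyProd h u P) = polyProd (f h) (f u) P := by
  unfold polyProd
  rw [map_list_prod, List.map_map]
  congr 1
  apply List.map_congr_left
  intro i _
  simp [map_cj]

section hom

variable {F : Type*} [Field F] (x : F → G) (hadd : ∀ a b, x (a + b) = x a * x b)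

include hadd

theorem x_zero : x 0 = 1 := by
  have := hadd 0 0
  rw [add_zero] at this
  exact (mul_eq_left.mp this.symm)

theorem x_neg (a : F) : x (-a) = (x a)⁻¹ := by
  have := hadd (-a) a
  rw [neg_add_cancel, x_zero x hadd] at this
  exact eq_inv_of_mul_eq_one_left this.symm

theorem x_sub (a b : F) : x (a - b) = x a * (x b)⁻¹ := by
  rw [sub_eq_add_neg, hadd, x_neg x hadd]

theorem x_comm (a b : F) : Commute (x a) (x b) := by
  show x a * x b = x b * x a
  rw [← hadd, ← hadd, add_comm]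

theorem x_nsmul (n : ℕ) (a : F) : x (n • a) = x a ^ n := by
  induction n with
  | zero => simp [x_zero x hadd]
  | succ n ih => rw [succ_nsmul, hadd, ih, pow_succ]

theorem x_natCast_mul (n : ℕ) (a : F) : x ((n : F) * a) = x a ^ n := by
  rw [← nsmul_eq_mul, x_nsmul x hadd]

theorem x_list_sum (l : List F) : x l.sum = (l.map x).prod := by
  induction l with
  | nil => simp [x_zero x hadd]
  | cons a l ih => simp [hadd, ih]

/-- the monoid hom version -/
def xHom : Multiplicative F →* G where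
  toFun a := x (Multiplicative.toAdd a)
  map_one' := x_zero x hadd
  map_mul' _ _ := hadd _ _

omit hadd in
theorem x_conj_pow (h : G) (g : F) (hconj : ∀ a, h * x a * h⁻¹ = x (g * a)) (n : ℕ) (a : F) :
    h ^ n * x a * (h ^ n)⁻¹ = x (g ^ n * a) := by
  induction n generalizing a with
  | zero => simp
  | succ n ih =>
    have e : h ^ (n + 1) * x a * (h ^ (n + 1))⁻¹ = h * (h ^ n * x a * (h ^ n)⁻¹) * h⁻¹ := by
      rw [pow_succ']
      group
    rw [e, ih, hconj, pow_succ']
    congr 1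
    ring

omit hadd in
theorem x_conj_zpow (h : G) (g : Fˣ) (hconj : ∀ a, h * x a * h⁻¹ = x ((g : F) * a)) (i : ℤ) (a : F) :
    h ^ i * x a * h ^ (-i) = x (((g ^ i : Fˣ) : F) * a) := by
  rcases Int.eq_nat_or_neg i with ⟨n, rfl | rfl⟩
  · have := x_conj_pow x h (g : F) hconj n a
    rw [zpow_neg, zpow_natCast, zpow_natCast, this, Units.val_pow_eq_pow_val]
  · -- negative power: use the positive case for the preimage
    have := x_conj_pow x h (g : F) hconj n (((g ^ (-(n : ℤ)) : Fˣ) : F) * a)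
    have e2 : (g : F) ^ n * (((g ^ (-(n : ℤ)) : Fˣ) : F) * a) = a := by
      rw [← mul_assoc, ← Units.val_pow_eq_pow_val, ← Units.val_mul, ← zpow_natCast, ← zpow_add,
        add_neg_cancel, zpow_zero, Units.val_one, one_mul]
    rw [e2] at this
    rw [← this, neg_neg, zpow_neg, zpow_natCast]
    group

end hom

/-- **Key evaluation lemma.** If `x : (F,+) → G` is a homomorphism with `x 1 = u` and
`h x(a) h⁻¹ = x(g a)`, then `polyProd h u P = x (P(g))`. -/
theorem polyProd_eq {F : Type*} [Field F] {p : ℕ} [Fact p.Prime] [Algebra (ZMod p) F] (x : F → G)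
    (hadd : ∀ a b, x (a + b) = x a * x b) (h u : G) (g : F) (hx1 : x 1 = u)
    (hconj : ∀ a, h * x a * h⁻¹ = x (g * a)) (P : (ZMod p)[X]) :
    polyProd h u P = x (aeval g P) := by
  have : NeZero p := ⟨(Fact.out : p.Prime).ne_zero⟩
  have hcj : ∀ i : ℕ, cj h u (i : ℤ) = x (g ^ i) := by
    intro i
    have := x_conj_pow x h g hconj i 1
    rw [mul_one, hx1] at this
    rw [← this, cj, zpow_neg, zpow_natCast]
  have hsm : ∀ (c : ZMod p) (b : F), x (c • b) = x b ^ c.val := by
    intro c b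
    rw [← x_natCast_mul x hadd, Algebra.smul_def]
    congr 2
    conv_lhs => rw [← ZMod.natCast_zmod_val c]
    rw [map_natCast]
  have key : ∀ n : ℕ, ((List.range n).map fun i : ℕ => cj h u (i : ℤ) ^ (P.coeff i).val).prod =
      x (∑ i ∈ Finset.range n, P.coeff i • g ^ i) := by
    intro n
    induction n with
    | zero => simp [x_zero x hadd]
    | succ n ih =>
      rw [List.range_succ, List.map_append, List.prod_append, ih, Finset.sum_range_succ, hadd]
      simp only [List.map_cons, List.map_nil, List.prod_cons, List.prod_nil, mul_one]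
      rw [hsm, hcj]
  rw [aeval_eq_sum_range]
  exact key _

end Cfsg.Agent.SL2Pres
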